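/-
Permutations of prime power order are built from elements of prime order inside `p`-subgroups.
-/
import Mathlib

set_option autoImplicit false
set_option linter.unusedSectionVars false

namespace Cfsg.Agent.Fusion.AltSimple.PElements

open Equiv

variable {α : Type*}

theorem zpow_apply_gcd (x : Perm α) {w : α} {i : ℤ} {N : ℕ} (hi : (x ^ i) w = w)
    (hN : (x ^ N) w = w) : (x ^ (Int.gcd i N)) w = w := by
  have hN' : (x ^ (N : ℤ)) w = w := by rw [zpow_natCast]; exact hN
  rw [← zpow_natCast, Int.gcd_eq_gcd_ab, zpow_add, zpow_mul, zpow_mul, Perm.mul_apply,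
    Perm.zpow_apply_eq_self_of_apply_eq_self hN', Perm.zpow_apply_eq_self_of_apply_eq_self hi]

theorem dvd_of_fix {p : ℕ} (hp : p.Prime) {a : ℕ} (x : Perm α) (hx : x ^ p ^ (a + 1) = 1) {w : α}
    (hw : (x ^ p ^ a) w ≠ w) {i : ℤ} (hi : (x ^ i) w = w) : ((p ^ (a + 1) : ℕ) : ℤ) ∣ i := by
  have h1 : (x ^ p ^ (a + 1)) w = w := by rw [hx]; rfl
  have h2 := zpow_apply_gcd x hi h1
  obtain ⟨j, hj, hj'⟩ := (Nat.dvd_prime_pow hp).1 (Int.natCast_dvd_natCast.1
    (Int.gcd_dvd_right i ((p ^ (a + 1) : ℕ) : ℤ)))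
  rw [hj'] at h2
  rcases Nat.lt_or_ge j (a + 1) with h | h
  · refine absurd ?_ hw
    obtain ⟨t, ht⟩ := Nat.exists_eq_add_of_le (Nat.lt_succ_iff.1 h)
    rw [ht, pow_add, pow_mul, Perm.pow_apply_eq_self_of_apply_eq_self h2]
  · have : j = a + 1 := le_antisymm hj h
    rw [this] at hj'
    rw [← hj']
    exact Int.gcd_dvd_left _ _

theorem exists_coords (x : Perm α) : ∃ (k : α → ℤ) (r : α → α),
    (∀ z, (x ^ k z) (r z) = z) ∧ ∀ (m : ℤ) z, r ((x ^ m) z) = r z := by
  classical
  let r : α → α := fun z => (Quotient.mk (Perm.SameCycle.setoid x) z).out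
  have hr : ∀ z, x.SameCycle (r z) z := fun z => Quotient.mk_out (s := Perm.SameCycle.setoid x) z
  choose k hk using hr
  refine ⟨k, r, hk, fun m z => ?_⟩
  refine congrArg Quotient.out (Quotient.sound (s := Perm.SameCycle.setoid x) ?_)
  exact (Perm.sameCycle_zpow_left.2 (Perm.SameCycle.refl x z))

variable [Fintype α] [DecidableEq α] {p : ℕ} [Fact p.Prime]

section Split

/-- A permutation of order dividing `p ^ (a + 1)` is a product, inside a `p`-group, of one of order
dividing `p` and one of order dividing `p ^ a`. -/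
theorem exists_split {a : ℕ} (x : Perm α) (hx : x ^ p ^ (a + 1) = 1) : ∃ (σ b : Perm α) (P : Subgroup (Perm α)), IsPGroup p P ∧ σ ∈ P ∧ b ∈ P ∧
    σ ^ p = 1 ∧ b ^ p ^ a = 1 ∧ x = σ * b := by
  have hp := (Fact.out : p.Prime)
  obtain ⟨k, r, hk, hr⟩ := exists_coords x
  let L : α → Prop := fun z => (x ^ p ^ a) z ≠ z
  let φ : α → ZMod p := fun z => (k z : ZMod p)
  have hL : ∀ (m : ℤ) z, L ((x ^ m) z) ↔ L z := fun m z => by
    show (x ^ p ^ a) ((x ^ m) z) ≠ (x ^ m) z ↔ (x ^ p ^ a) z ≠ z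
    rw [← zpow_natCast, ← Perm.mul_apply, ← zpow_add, add_comm, zpow_add, Perm.mul_apply,
      Function.Injective.ne_iff (x ^ m).injective]
  have hφ : ∀ (m : ℤ) z, L z → φ ((x ^ m) z) = φ z + (m : ZMod p) := fun m z hz => by
    have h1 := hk ((x ^ m) z)
    rw [hr] at h1
    have h2 : (x ^ (-(m + k z) + k ((x ^ m) z))) (r z) = r z := by
      rw [zpow_add, Perm.mul_apply, h1, ← Perm.mul_apply, ← zpow_add,
        show -(m + k z) + m = -k z by ring]
      conv_lhs => arg 2; rw [← hk z]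
      rw [← Perm.mul_apply, ← zpow_add, neg_add_cancel, zpow_zero]
      rfl
    have hrL : L (r z) := (hL (k z) (r z)).1 (by rw [hk]; exact hz)
    have h3 := dvd_of_fix hp x hx hrL h2
    have h4 : ((p : ℕ) : ℤ) ∣ -(m + k z) + k ((x ^ m) z) :=
      (Int.natCast_dvd_natCast.2 (dvd_pow_self p a.succ_ne_zero)).trans h3
    rw [← ZMod.intCast_zmod_eq_zero_iff_dvd] at h4
    push_cast at h4
    show ((k ((x ^ m) z) : ℤ) : ZMod p) = (k z : ZMod p) + m
    linear_combination h4
  have hφp : ∀ (m : ℤ) z, L z → φ ((x ^ ((p : ℤ) * m)) z) = φ z := fun m z hz => by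
    rw [hφ _ z hz]
    simp
  -- the abelian base
  let f : (ZMod p → ℤ) × ℤ → α → α := fun c z =>
    if L z then (x ^ ((p : ℤ) * c.1 (φ z))) z else (x ^ c.2) z
  have hf : ∀ c d z, f (c + d) z = f c (f d z) := fun c d z => by
    by_cases hz : L z
    · simp only [f, if_pos hz, if_pos ((hL _ z).2 hz), hφp _ z hz]
      rw [← Perm.mul_apply, ← zpow_add, ← mul_add]
      rfl
    · simp only [f, if_neg hz, if_neg (fun h => hz ((hL _ z).1 h))]
      rw [← Perm.mul_apply, ← zpow_add]
      rfl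
  have hf0 : ∀ z, f 0 z = z := fun z => by simp [f]
  let ψ : Multiplicative ((ZMod p → ℤ) × ℤ) →* Perm α := MonoidHom.mk'
    (fun c => ⟨f c.toAdd, f (-c.toAdd), fun z => by rw [← hf, neg_add_cancel, hf0],
      fun z => by rw [← hf, add_neg_cancel, hf0]⟩)
    fun c d => Equiv.ext fun z => hf c.toAdd d.toAdd z
  have hψ : ∀ c z, ψ (Multiplicative.ofAdd c) z = f c z := fun c z => rfl
  have hψpow : ∀ (n : ℕ) c, (ψ (Multiplicative.ofAdd c)) ^ n = ψ (Multiplicative.ofAdd (n • c)) :=
    fun n c => by rw [← map_pow, ← ofAdd_nsmul]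
  have hxN : ∀ (i : ℤ) z, (x ^ (((p ^ (a + 1) : ℕ) : ℤ) * i)) z = z := fun i z => by
    rw [zpow_mul, zpow_natCast, hx, one_zpow]
    rfl
  -- the element of order `p`
  let e : ZMod p → ℤ := fun t => if t = -1 then 1 - p else 1
  let g : α → α := fun z => if L z then (x ^ e (φ z)) z else z
  let g' : α → α := fun z => if L z then (x ^ (-e (φ z - 1))) z else z
  have he : ∀ t : ZMod p, (e t : ZMod p) = 1 := fun t => by
    simp only [e]
    split_ifs <;> simp
  let σ : Perm α := ⟨g, g', fun z => by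
    by_cases hz : L z
    · simp only [g, g', if_pos hz, if_pos ((hL _ z).2 hz), hφ _ z hz, he, add_sub_cancel_right]
      rw [← Perm.mul_apply, ← zpow_add, neg_add_cancel, zpow_zero]
      rfl
    · simp only [g, g', if_neg hz], fun z => by
    by_cases hz : L z
    · simp only [g, g', if_pos hz, if_pos ((hL _ z).2 hz), hφ _ z hz, Int.cast_neg, he,
        ← sub_eq_add_neg]
      rw [← Perm.mul_apply, ← zpow_add, add_neg_cancel, zpow_zero]
      rfl
    · simp only [g, g', if_neg hz]⟩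
  have hσ : ∀ z, σ z = g z := fun z => rfl
  have hval : ∀ t : ZMod p, ((t + 1).val : ℤ) = t.val + e t := fun t => by
    simp only [e]
    have h1 := ZMod.val_lt t
    split_ifs with h
    · subst h
      rw [neg_add_cancel, ZMod.val_zero]
      have : (-1 : ZMod p).val = p - 1 := by
        obtain ⟨q, rfl⟩ : ∃ q, p = q + 1 := ⟨p - 1, by have := hp.pos; omega⟩
        exact ZMod.val_neg_one q
      rw [this]
      have := hp.one_lt
      omega
    · have h2 : t.val + 1 < p := by
        refine lt_of_le_of_ne h1 fun h3 => h ?_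
        rw [← ZMod.natCast_zmod_val t, eq_neg_iff_add_eq_zero]
        exact_mod_cast (ZMod.natCast_eq_zero_iff _ _).2 ⟨1, by omega⟩
      have h4 : (t + 1).val = t.val + 1 := by
        rw [ZMod.val_add, ZMod.val_one, Nat.mod_eq_of_lt h2]
      rw [h4]
      push_cast
      ring
  have hσpow : ∀ (j : ℕ) z, L z →
      (σ ^ j) z = (x ^ (((φ z + j).val : ℤ) - (φ z).val)) z := by
    intro j z hz
    induction j with
    | zero => simp
    | succ j ih =>
      rw [pow_succ', Perm.mul_apply, ih, hσ]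
      simp only [g, if_pos ((hL _ z).2 hz), hφ _ z hz]
      push_cast
      rw [ZMod.natCast_zmod_val, ZMod.natCast_zmod_val,
        show φ z + (φ z + j - φ z) = φ z + j by ring, ← add_assoc, hval, ← Perm.mul_apply,
        ← zpow_add]
      congr 2
      ring
  have hσp : σ ^ p = 1 := Equiv.ext fun z => by
    by_cases hz : L z
    · rw [hσpow p z hz, ZMod.natCast_self, add_zero, sub_self, zpow_zero]
    · rw [Perm.pow_apply_eq_self_of_apply_eq_self (by rw [hσ]; simp only [g, if_neg hz])]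
      rfl
  let c₀ : (ZMod p → ℤ) × ℤ := (Pi.single (-1) 1, 1)
  refine ⟨σ, ψ (Multiplicative.ofAdd c₀), Subgroup.zpowers σ ⊔ ψ.range, ?_,
    Subgroup.mem_sup_left (Subgroup.mem_zpowers σ), Subgroup.mem_sup_right ⟨_, rfl⟩, hσp, ?_, ?_⟩
  · refine IsPGroup.to_sup_of_normal_right' ?_ ?_ ?_
    · intro y
      refine ⟨1, Subtype.ext ?_⟩
      obtain ⟨i, hi⟩ := Subgroup.mem_zpowers_iff.1 y.2
      rw [SubgroupClass.coe_pow, ← hi, pow_one, ← zpow_natCast, ← zpow_mul, mul_comm, zpow_mul,
        zpow_natCast, hσp, one_zpow, OneMemClass.coe_one]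
    · intro y
      refine ⟨a + 1, Subtype.ext ?_⟩
      obtain ⟨c, hc⟩ := y.2
      rw [SubgroupClass.coe_pow, ← hc, show c = Multiplicative.ofAdd c.toAdd from rfl, hψpow]
      refine Equiv.ext fun z => ?_
      rw [hψ]
      by_cases hz : L z
      · simp only [f, if_pos hz]
        show (x ^ ((p : ℤ) * ((p ^ (a + 1)) • (c.toAdd.1 (φ z))))) z = z
        rw [nsmul_eq_mul, mul_left_comm]
        exact hxN _ z
      · simp only [f, if_neg hz]
        show (x ^ ((p ^ (a + 1)) • c.toAdd.2)) z = z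
        rw [nsmul_eq_mul]
        exact hxN _ z
    · rw [Subgroup.zpowers_le]
      refine Subgroup.mem_normalizer_iff.2 fun h => ?_
      have key : ∀ c : (ZMod p → ℤ) × ℤ, σ * ψ (Multiplicative.ofAdd c) =
          ψ (Multiplicative.ofAdd (fun t => c.1 (t - 1), c.2)) * σ := fun c => by
        refine Equiv.ext fun z => ?_
        rw [Perm.mul_apply, Perm.mul_apply, hψ, hψ, hσ, hσ]
        by_cases hz : L z
        · simp only [f, g, if_pos hz, if_pos ((hL _ z).2 hz), hφp _ z hz, hφ _ z hz, he,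
            add_sub_cancel_right]
          rw [← Perm.mul_apply, ← Perm.mul_apply, ← zpow_add, ← zpow_add, add_comm]
        · simp only [f, g, if_neg hz, if_neg (fun h => hz ((hL _ z).1 h))]
      constructor
      · rintro ⟨c, rfl⟩
        exact ⟨Multiplicative.ofAdd (fun t => c.toAdd.1 (t - 1), c.toAdd.2),
          eq_mul_inv_iff_mul_eq.2 (key c.toAdd).symm⟩
      · rintro ⟨c, hc⟩
        refine ⟨Multiplicative.ofAdd (fun t => c.toAdd.1 (t + 1), c.toAdd.2), ?_⟩
        have h1 := key (fun t => c.toAdd.1 (t + 1), c.toAdd.2)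
        simp only [sub_add_cancel] at h1
        have hc' : ψ (Multiplicative.ofAdd (c.toAdd.1, c.toAdd.2)) = σ * h * σ⁻¹ := hc
        rw [hc', inv_mul_cancel_right] at h1
        exact mul_left_cancel h1
  · rw [hψpow]
    refine Equiv.ext fun z => ?_
    rw [hψ]
    by_cases hz : L z
    · simp only [f, if_pos hz]
      show (x ^ ((p : ℤ) * ((p ^ a) • (c₀.1 (φ z))))) z = z
      rw [nsmul_eq_mul, ← mul_assoc, ← Nat.cast_mul, ← pow_succ']
      exact hxN _ z
    · simp only [f, if_neg hz]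
      show (x ^ ((p ^ a) • (1 : ℤ))) z = z
      rw [nsmul_eq_mul, mul_one, zpow_natCast]
      exact not_not.1 hz
  · refine Equiv.ext fun z => ?_
    rw [Perm.mul_apply, hψ, hσ]
    by_cases hz : L z
    · simp only [f, g, c₀, if_pos hz, if_pos ((hL _ z).2 hz), hφp _ z hz]
      rw [← Perm.mul_apply, ← zpow_add]
      simp only [e, Pi.single_apply]
      split_ifs <;> simp
    · simp only [f, g, c₀, if_neg hz, zpow_one]
      rw [if_neg fun h => hz ((hL 1 z).1 (by rwa [zpow_one]))]

end Split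

/-- A property which holds for elements of prime order and is multiplicative inside `p`-subgroups
holds for all elements of prime power order. -/
theorem induction_prime_pow (Φ : Perm α → Prop) (h1 : Φ 1) (hp : ∀ x, orderOf x = p → Φ x)
    (hmul : ∀ P : Subgroup (Perm α), IsPGroup p P → ∀ x ∈ P, ∀ y ∈ P, Φ x → Φ y → Φ (x * y)) :
    ∀ (a : ℕ) (x : Perm α), x ^ p ^ a = 1 → Φ x := by
  intro a
  induction a with
  | zero => intro x hx; rw [pow_zero, pow_one] at hx; exact hx ▸ h1
  | succ a ih =>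
    intro x hx
    obtain ⟨σ, b, P, hP, hσP, hbP, hσ, hb, rfl⟩ := exists_split x hx
    refine hmul P hP σ hσP b hbP ?_ (ih b hb)
    rcases (Nat.dvd_prime (Fact.out : p.Prime)).1 (orderOf_dvd_of_pow_eq_one hσ) with h | h
    · rw [orderOf_eq_one_iff.1 h]; exact h1
    · exact hp σ h

/-- An even permutation of 2-power order is a product of two even involutions in a 2-group. -/
theorem exists_even_inverter {x : Perm α} {a : ℕ} (hx : orderOf x = 2 ^ a) (hx1 : x ≠ 1) :
    ∃ y : Perm α, Perm.sign y = 1 ∧ y * y = 1 ∧ y * x * y⁻¹ = x⁻¹ := by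
  classical
  obtain ⟨k, r, hk, hr⟩ := exists_coords x
  have hflip : ∀ (i j : ℤ) (w : α), (x ^ i) w = (x ^ j) w → (x ^ (-i)) w = (x ^ (-j)) w := by
    intro i j w h
    have h1 : (x ^ (i - j)) w = w := by
      rw [sub_eq_neg_add, zpow_add, Perm.mul_apply, h, ← Perm.mul_apply, ← zpow_add,
        neg_add_cancel, zpow_zero]
      rfl
    have h2 : (x ^ (-j)) ((x ^ (i - j)) w) = (x ^ (-j)) w := by rw [h1]
    have h3 : (x ^ (-(i - j))) w = w := by
      conv_lhs => rw [← h1, ← Perm.mul_apply, ← zpow_add]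
      rw [neg_add_cancel, zpow_zero]
      rfl
    rw [show -i = -j + -(i - j) by ring, zpow_add, Perm.mul_apply, h3]
  let f : α → α := fun z => (x ^ (-k z)) (r z)
  have hrf : ∀ z, r (f z) = r z := fun z => by
    have h1 : r ((x ^ k z) (r z)) = r (r z) := hr _ _
    rw [hk] at h1
    rw [show f z = (x ^ (-k z)) (r z) from rfl, hr, ← h1]
  have hff : ∀ z, f (f z) = z := fun z => by
    have h1 : (x ^ k (f z)) (r z) = (x ^ (-k z)) (r z) := by
      have h2 := hk (f z)
      rw [hrf] at h2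
      exact h2
    show (x ^ (-k (f z))) (r (f z)) = z
    rw [hrf, hflip _ _ _ h1, neg_neg, hk]
  have hfx : ∀ z, f (x z) = x⁻¹ (f z) := fun z => by
    have hrx : r (x z) = r z := by simpa using hr 1 z
    have h1 : (x ^ k (x z)) (r z) = (x ^ (1 + k z)) (r z) := by
      have h2 := hk (x z)
      rw [hrx] at h2
      rw [h2, zpow_add, zpow_one, Perm.mul_apply, hk]
    show (x ^ (-k (x z))) (r (x z)) = x⁻¹ ((x ^ (-k z)) (r z))
    rw [hrx, hflip _ _ _ h1, neg_add, zpow_add, zpow_neg_one, Perm.mul_apply]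
  let y : Perm α := ⟨f, f, hff, hff⟩
  have hyy : y * y = 1 := Equiv.ext hff
  have hyx : y * x * y⁻¹ = x⁻¹ := by
    rw [mul_inv_eq_iff_eq_mul]
    exact Equiv.ext hfx
  rcases Int.units_eq_one_or (Perm.sign y) with hs | hs
  · exact ⟨y, hs, hyy, hyx⟩
  obtain ⟨z₀, hz₀⟩ : ∃ z, x z ≠ z := by
    by_contra h
    push Not at h
    exact hx1 (Equiv.ext h)
  set c := x.cycleOf z₀ with hc
  have hcyc : c.IsCycle := Perm.isCycle_cycleOf x hz₀
  have hcx : Commute c x := by
    refine Equiv.ext fun z => ?_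
    rw [Perm.mul_apply, Perm.mul_apply, hc, Perm.cycleOf_apply, Perm.cycleOf_apply]
    by_cases h : x.SameCycle z₀ z
    · rw [if_pos h, if_pos (Perm.sameCycle_apply_right.2 h)]
    · rw [if_neg h, if_neg (fun h' => h (Perm.sameCycle_apply_right.1 h'))]
  have hsame : ∀ z, x.SameCycle z₀ (f z) ↔ x.SameCycle z₀ z := fun z => by
    have h1 : x.SameCycle z (f z) := ⟨-k z + -k z, by
      conv_lhs => arg 2; rw [← hk z]
      rw [← Perm.mul_apply, ← zpow_add, show -k z + -k z + k z = -k z by ring]⟩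
    exact ⟨fun h => h.trans h1.symm, fun h => h.trans h1⟩
  have hyc : y * c = c⁻¹ * y := by
    rw [eq_inv_mul_iff_mul_eq]
    refine Equiv.ext fun z => ?_
    show c (f (c z)) = f z
    by_cases h : x.SameCycle z₀ z
    · have h1 : c z = x z := by rw [hc, Perm.cycleOf_apply, if_pos h]
      rw [h1, hc, Perm.cycleOf_apply, if_pos ((hsame _).2 (Perm.sameCycle_apply_right.2 h)), hfx]
      exact x.apply_symm_apply _
    · have h1 : c z = z := by rw [hc, Perm.cycleOf_apply, if_neg h]
      rw [h1, hc, Perm.cycleOf_apply, if_neg (fun h' => h ((hsame _).1 h'))]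
  refine ⟨y * c, ?_, ?_, ?_⟩
  · rw [map_mul, hs, hcyc.sign]
    have h2 : c.support.card ∣ 2 ^ a := by
      rw [← hcyc.orderOf, ← hx]
      refine orderOf_dvd_of_pow_eq_one (Equiv.ext fun z => ?_)
      rw [hc, Perm.one_apply]
      by_cases h : x.SameCycle z₀ z
      · rw [h.cycleOf_eq, Perm.cycleOf_pow_apply_self, pow_orderOf_eq_one]
        rfl
      · rw [Perm.pow_apply_eq_self_of_apply_eq_self (by rw [Perm.cycleOf_apply, if_neg h])]
    obtain ⟨j, -, hj⟩ := (Nat.dvd_prime_pow Nat.prime_two).1 h2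
    have : Even c.support.card := by
      rw [hj]
      refine Nat.even_pow.2 ⟨even_two, fun h => ?_⟩
      have := hcyc.two_le_card_support
      rw [hj, h, pow_zero] at this
      omega
    rw [this.neg_one_pow]
    simp
  · calc y * c * (y * c) = y * c * (c⁻¹ * y) := by rw [hyc]
      _ = 1 := by rw [mul_assoc, mul_inv_cancel_left, hyy]
  · calc y * c * x * (y * c)⁻¹ = y * (c * x * c⁻¹) * y⁻¹ := by group
      _ = x⁻¹ := by rw [hcx.eq, mul_inv_cancel_right, hyx]

end Cfsg.Agent.Fusion.AltSimple.PElements
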