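/-
Block structure on `k` blocks of size `p` and at most one further point: translations, the
normalizer, rigidity.
-/
import Mathlib
import Cfsg.Agent.Lib.Fusion.AltSimple.PElements

set_option autoImplicit false
set_option linter.unusedSectionVars false

namespace Cfsg.Agent.Fusion.AltSimple

open Equiv

variable (p k r : ℕ)

/-- The points: `k` blocks of size `p` and `r` further points. -/
abbrev Pt : Type := (Fin k × ZMod p) ⊕ Fin r

variable {p k r}

/-- The translation by a vector, block by block. -/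
def tr (v : Fin k → ZMod p) : Perm (Pt p k r) :=
  Equiv.sumCongr (Equiv.prodCongrRight fun a => Equiv.addRight (v a)) (Equiv.refl (Fin r))

/-- The multiplication by units, block by block. -/
def dg (u : Fin k → (ZMod p)ˣ) : Perm (Pt p k r) :=
  Equiv.sumCongr (Equiv.prodCongrRight fun a => (u a).mulLeft) (Equiv.refl (Fin r))

/-- A permutation of the blocks. -/
def top (π : Perm (Fin k)) : Perm (Pt p k r) :=
  Equiv.sumCongr (Equiv.prodCongrLeft fun _ => π) (Equiv.refl (Fin r))

@[simp] theorem tr_inl (v : Fin k → ZMod p) (a : Fin k) (j : ZMod p) :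
    tr (r := r) v (Sum.inl (a, j)) = Sum.inl (a, j + v a) := rfl

@[simp] theorem tr_inr (v : Fin k → ZMod p) (i : Fin r) : tr v (Sum.inr i) = Sum.inr i := rfl

@[simp] theorem dg_inl (u : Fin k → (ZMod p)ˣ) (a : Fin k) (j : ZMod p) :
    dg (r := r) u (Sum.inl (a, j)) = Sum.inl (a, (u a : ZMod p) * j) := rfl

@[simp] theorem dg_inr (u : Fin k → (ZMod p)ˣ) (i : Fin r) : dg u (Sum.inr i) = Sum.inr i := rfl

@[simp] theorem top_inl (π : Perm (Fin k)) (a : Fin k) (j : ZMod p) :
    top (r := r) π (Sum.inl (a, j)) = Sum.inl (π a, j) := rfl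

@[simp] theorem top_inr (π : Perm (Fin k)) (i : Fin r) :
    top (p := p) π (Sum.inr i) = Sum.inr i := rfl

theorem tr_add (v w : Fin k → ZMod p) : tr (r := r) (v + w) = tr v * tr w := Equiv.ext fun z => by
  rcases z with ⟨a, j⟩ | i <;> simp [Perm.mul_apply, add_assoc, add_comm, add_left_comm]

theorem tr_zero : tr (r := r) (0 : Fin k → ZMod p) = 1 := Equiv.ext fun z => by
  rcases z with ⟨a, j⟩ | i <;> simp

theorem tr_neg (v : Fin k → ZMod p) : tr (r := r) (-v) = (tr v)⁻¹ :=
  eq_inv_of_mul_eq_one_left (by rw [← tr_add, neg_add_cancel, tr_zero])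

theorem tr_nsmul (m : ℕ) (v : Fin k → ZMod p) : tr (r := r) (m • v) = tr v ^ m := by
  induction m with
  | zero => rw [zero_smul, tr_zero, pow_zero]
  | succ m ih => rw [add_smul, one_smul, tr_add, ih, pow_succ]

theorem tr_pow_self (v : Fin k → ZMod p) : tr (r := r) v ^ p = 1 := by
  rw [← tr_nsmul, show p • v = 0 from funext fun a => by simp, tr_zero]

theorem tr_injective : Function.Injective (tr (p := p) (k := k) (r := r)) := fun v w h => funext fun a => by
  have := congrArg (fun g : Perm (Pt p k r) => g (Sum.inl (a, 0))) h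
  simpa using this

theorem dg_mul (u w : Fin k → (ZMod p)ˣ) : dg (r := r) (u * w) = dg u * dg w := Equiv.ext fun z => by
  rcases z with ⟨a, j⟩ | i <;> simp [Perm.mul_apply, mul_assoc]

theorem dg_one : dg (r := r) (1 : Fin k → (ZMod p)ˣ) = 1 := Equiv.ext fun z => by
  rcases z with ⟨a, j⟩ | i <;> simp

theorem top_mul (π ρ : Perm (Fin k)) : top (p := p) (r := r) (π * ρ) = top π * top ρ :=
  Equiv.ext fun z => by rcases z with ⟨a, j⟩ | i <;> simp [Perm.mul_apply]

theorem top_one : top (p := p) (r := r) (1 : Perm (Fin k)) = 1 := Equiv.ext fun z => by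
  rcases z with ⟨a, j⟩ | i <;> simp

theorem top_inv (π : Perm (Fin k)) : top (p := p) (r := r) π⁻¹ = (top π)⁻¹ :=
  eq_inv_of_mul_eq_one_left (by rw [← top_mul, inv_mul_cancel, top_one])

theorem top_injective [NeZero p] : Function.Injective (top (p := p) (k := k) (r := r)) :=
  fun π ρ h => Equiv.ext fun a => by
    have := congrArg (fun g : Perm (Pt p k r) => g (Sum.inl (a, 0))) h
    simpa using this

/-- The group of translations. -/
def T (p k r : ℕ) : Subgroup (Perm (Pt p k r)) where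
  carrier := Set.range tr
  one_mem' := ⟨0, tr_zero⟩
  mul_mem' := by rintro _ _ ⟨v, rfl⟩ ⟨w, rfl⟩; exact ⟨v + w, tr_add v w⟩
  inv_mem' := by rintro _ ⟨v, rfl⟩; exact ⟨-v, tr_neg v⟩

theorem tr_mem (v : Fin k → ZMod p) : tr (r := r) v ∈ T p k r := ⟨v, rfl⟩

/-- A permutation which permutes the blocks affinely. -/
def Aff (g : Perm (Pt p k r)) : Prop :=
  ∃ (π : Perm (Fin k)) (u : Fin k → (ZMod p)ˣ) (v : Fin k → ZMod p),
    (∀ a j, g (Sum.inl (a, j)) = Sum.inl (π a, (u a : ZMod p) * j + v a)) ∧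
      ∀ i, g (Sum.inr i) = Sum.inr i

theorem aff_tr (v : Fin k → ZMod p) : Aff (tr (r := r) v) :=
  ⟨1, 1, v, fun a j => by simp, fun i => rfl⟩

theorem aff_dg (u : Fin k → (ZMod p)ˣ) : Aff (dg (r := r) u) :=
  ⟨1, u, 0, fun a j => by simp, fun i => rfl⟩

theorem aff_top (π : Perm (Fin k)) : Aff (top (p := p) (r := r) π) :=
  ⟨π, 1, 0, fun a j => by simp, fun i => rfl⟩

theorem aff_mul {g h : Perm (Pt p k r)} (hg : Aff g) (hh : Aff h) : Aff (g * h) := by
  obtain ⟨π, u, v, h1, h2⟩ := hg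
  obtain ⟨ρ, w, x, h3, h4⟩ := hh
  exact ⟨π * ρ, fun a => u (ρ a) * w a, fun a => (u (ρ a) : ZMod p) * x a + v (ρ a),
    fun a j => by simp [Perm.mul_apply, h1, h3, mul_add, mul_assoc, add_assoc],
    fun i => by simp [Perm.mul_apply, h2, h4]⟩

theorem aff_inv {g : Perm (Pt p k r)} (hg : Aff g) : Aff g⁻¹ := by
  obtain ⟨π, u, v, h1, h2⟩ := hg
  refine ⟨π⁻¹, fun a => (u (π⁻¹ a))⁻¹,
    fun a => -(((u (π⁻¹ a))⁻¹ : (ZMod p)ˣ) : ZMod p) * v (π⁻¹ a),
    fun a j => g.injective ?_, fun i => g.injective ?_⟩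
  · rw [Perm.coe_inv, g.apply_symm_apply, h1]
    simp [mul_add, ← mul_assoc]
  · rw [Perm.coe_inv, g.apply_symm_apply, h2]

/-- The affine permutations of the blocks. -/
def AffG (p k r : ℕ) : Subgroup (Perm (Pt p k r)) where
  carrier := {g | Aff g}
  one_mem' := by rw [← tr_zero]; exact aff_tr 0
  mul_mem' := aff_mul
  inv_mem' := aff_inv

theorem aff_decomp {g : Perm (Pt p k r)} {π : Perm (Fin k)} {u : Fin k → (ZMod p)ˣ}
    {v : Fin k → ZMod p} (h1 : ∀ a j, g (Sum.inl (a, j)) = Sum.inl (π a, (u a : ZMod p) * j + v a))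
    (h2 : ∀ i, g (Sum.inr i) = Sum.inr i) :
    g = tr (fun b => v (π⁻¹ b)) * top π * dg u := Equiv.ext fun z => by
  rcases z with ⟨a, j⟩ | i <;> simp [Perm.mul_apply, h1, h2]

theorem aff_conj_tr {g : Perm (Pt p k r)} {π : Perm (Fin k)} {u : Fin k → (ZMod p)ˣ}
    {v : Fin k → ZMod p} (h1 : ∀ a j, g (Sum.inl (a, j)) = Sum.inl (π a, (u a : ZMod p) * j + v a))
    (h2 : ∀ i, g (Sum.inr i) = Sum.inr i) (x : Fin k → ZMod p) :
    g * tr x * g⁻¹ = tr (fun b => (u (π⁻¹ b) : ZMod p) * x (π⁻¹ b)) := by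
  rw [mul_inv_eq_iff_eq_mul]
  refine Equiv.ext fun z => ?_
  rcases z with ⟨a, j⟩ | i <;> simp [Perm.mul_apply, h1, h2, mul_add, add_assoc, add_comm (v _)]

theorem aff_conj_mem {g h : Perm (Pt p k r)} (hg : Aff g) (hh : h ∈ T p k r) :
    g * h * g⁻¹ ∈ T p k r := by
  obtain ⟨π, u, v, h1, h2⟩ := hg
  obtain ⟨x, rfl⟩ := hh
  rw [aff_conj_tr h1 h2]
  exact tr_mem _

theorem affG_le_normalizer :
    AffG p k r ≤ Subgroup.normalizer ((T p k r : Subgroup _) : Set (Perm (Pt p k r))) := fun g hg => by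
  refine Subgroup.mem_normalizer_iff.2 fun h => ⟨aff_conj_mem hg, fun hh => ?_⟩
  have := aff_conj_mem (aff_inv hg) hh
  simpa [mul_assoc] using this

/-- The difference of two coordinate vectors. -/
def ev (a b : Fin k) : Fin k → ZMod p := Pi.single a 1 - Pi.single b 1

variable [Fact p.Prime]

theorem ev_ne {a b : Fin k} (hab : a ≠ b) {c : Fin k} :
    ev (p := p) a b c ≠ 0 ↔ c = a ∨ c = b := by
  rcases eq_or_ne c a with rfl | hca
  · simp [ev, hab]
  rcases eq_or_ne c b with rfl | hcb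
  · simp [ev, hca]
  simp [ev, hca, hcb]

/-- An affine permutation of order dividing `p` is a translation on each block it fixes. -/
theorem aff_order {τ : Perm (Pt p k r)} (hτ : Aff τ) (hp : τ ^ p = 1) (c : Fin k) :
    (∀ j, τ (Sum.inl (c, j)) ≠ Sum.inl (c, j) ∧ ∀ i, τ (Sum.inl (c, j)) ≠ Sum.inl (c, i)) ∨
      ∃ w, ∀ j, τ (Sum.inl (c, j)) = Sum.inl (c, j + w) := by
  obtain ⟨π, u, v, h1, -⟩ := hτ
  by_cases hc : π c = c
  · right
    have hm : ∀ m : ℕ, ∃ V : ZMod p, ∀ j,
        (τ ^ m) (Sum.inl (c, j)) = Sum.inl (c, (u c : ZMod p) ^ m * j + V) := by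
      intro m
      induction m with
      | zero => exact ⟨0, fun j => by simp⟩
      | succ m ih =>
        obtain ⟨V, hV⟩ := ih
        refine ⟨(u c : ZMod p) * V + v c, fun j => ?_⟩
        rw [pow_succ', Perm.mul_apply, hV, h1, hc]
        congr 2
        ring
    obtain ⟨V, hV⟩ := hm p
    have h3 := hV 0
    have h4 := hV 1
    rw [hp, Perm.one_apply, Sum.inl.injEq, Prod.mk.injEq] at h3 h4
    have hu : (u c : ZMod p) = 1 := by
      rw [← ZMod.pow_card (u c : ZMod p)]
      linear_combination (norm := ring_nf) -h4.2 + h3.2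
    exact ⟨v c, fun j => by rw [h1, hc, hu, one_mul]⟩
  · left
    refine fun j => ⟨fun h => ?_, fun i h => ?_⟩ <;>
      (rw [h1, Sum.inl.injEq, Prod.mk.injEq] at h; exact hc h.1)

theorem aff_moves_all {τ : Perm (Pt p k r)} (hτ : Aff τ) (hp : τ ^ p = 1) {c : Fin k} {j : ZMod p}
    (h : τ (Sum.inl (c, j)) ≠ Sum.inl (c, j)) (i : ZMod p) :
    τ (Sum.inl (c, i)) ≠ Sum.inl (c, i) := by
  rcases aff_order hτ hp c with h' | ⟨w, hw⟩
  · exact (h' i).1
  · rw [hw] at h ⊢
    intro hi
    rw [Sum.inl.injEq, Prod.mk.injEq, add_eq_left] at hi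
    exact h (by rw [hi.2, add_zero])

/-- Rigidity of the block structure. -/
theorem aff_of_conj (hk : 3 ≤ k) (hr : r ≤ 1) {g : Perm (Pt p k r)}
    (h : ∀ a b : Fin k, a ≠ b → Aff (g * tr (ev a b) * g⁻¹)) : Aff g := by
  have hp := (Fact.out : p.Prime)
  let τ := fun a b : Fin k => g * tr (ev a b) * g⁻¹
  have hτp : ∀ a b, τ a b ^ p = 1 := fun a b => by
    rw [conj_pow, tr_pow_self, mul_one, mul_inv_cancel]
  have hτg : ∀ a b z, τ a b (g z) = g (tr (ev a b) z) := fun a b z => by
    simp [τ, Perm.mul_apply]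
  have hmove : ∀ a b, a ≠ b → ∀ z, τ a b (g z) ≠ g z ↔
      ∃ c j, z = Sum.inl (c, j) ∧ (c = a ∨ c = b) := by
    intro a b hab z
    rw [hτg, g.injective.ne_iff]
    rcases z with ⟨c, j⟩ | i
    · rw [tr_inl, Ne, Sum.inl.injEq, Prod.mk.injEq, add_eq_left]
      simp only [true_and, ev_ne hab]
      constructor
      · exact fun h => ⟨c, j, rfl, h⟩
      · rintro ⟨c', j', e, h⟩
        simp only [Sum.inl.injEq, Prod.mk.injEq] at e
        rw [e.1]; exact h
    · simp
  have hother : ∀ a : Fin k, ∃ b c, b ≠ a ∧ c ≠ a ∧ b ≠ c := by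
    intro a
    have : 2 ≤ (Finset.univ.erase a).card := by simp; omega
    obtain ⟨b, hb, c, hc, hbc⟩ := Finset.one_lt_card.1 this
    exact ⟨b, c, Finset.ne_of_mem_erase hb, Finset.ne_of_mem_erase hc, hbc⟩
  -- the image of a block is a block
  have hblock : ∀ a, ∃ c, (∀ j, ∃ i, g (Sum.inl (a, j)) = Sum.inl (c, i)) ∧
      ∀ i, ∃ j, g (Sum.inl (a, j)) = Sum.inl (c, i) := by
    intro a
    obtain ⟨b, b', hb, hb', hbb⟩ := hother a
    have h1 : τ a b (g (Sum.inl (a, 0))) ≠ g (Sum.inl (a, 0)) :=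
      (hmove a b hb.symm _).2 ⟨a, 0, rfl, Or.inl rfl⟩
    obtain ⟨π, u, v, -, h2⟩ := h a b hb.symm
    rcases hz : g (Sum.inl (a, 0)) with ⟨c, i₀⟩ | i
    swap
    · rw [hz] at h1; exact absurd (h2 i) h1
    have hall : ∀ i, ∃ j, g (Sum.inl (a, j)) = Sum.inl (c, i) := by
      intro i
      have key : ∀ b, b ≠ a → ∃ x j, g⁻¹ (Sum.inl (c, i)) = Sum.inl (x, j) ∧ (x = a ∨ x = b) := by
        intro b hb
        have h3 := (hmove a b hb.symm (Sum.inl (a, 0))).2 ⟨a, 0, rfl, Or.inl rfl⟩
        rw [hz] at h3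
        have h4 := aff_moves_all (h a b hb.symm) (hτp a b) h3 i
        refine (hmove a b hb.symm _).1 ?_
        rw [Perm.coe_inv, g.apply_symm_apply]
        exact h4
      obtain ⟨x, j, hx, hxab⟩ := key b hb
      obtain ⟨x', j', hx', hxab'⟩ := key b' hb'
      rw [hx, Sum.inl.injEq, Prod.mk.injEq] at hx'
      rcases hxab with rfl | rfl
      · exact ⟨j, by rw [← hx, Perm.coe_inv, g.apply_symm_apply]⟩
      · rcases hxab' with h5 | h5
        · exact absurd (hx'.1.trans h5) hb
        · exact absurd (hx'.1.trans h5) hbb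
    choose f hf using hall
    have hfinj : Function.Injective f := fun i i' e => by
      have := (hf i).symm.trans ((congrArg (fun j => g (Sum.inl (a, j))) e).trans (hf i'))
      simpa using this
    have hfs := Finite.surjective_of_injective hfinj
    exact ⟨c, fun j => by obtain ⟨i, rfl⟩ := hfs j; exact ⟨i, hf i⟩, fun i => ⟨f i, hf i⟩⟩
  choose π hπ hπs using hblock
  have hπinj : Function.Injective π := fun a b e => by
    obtain ⟨i, hi⟩ := hπ a 0
    rw [e] at hi
    obtain ⟨j, hj⟩ := hπs b i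
    have := g.injective (hi.trans hj.symm)
    rw [Sum.inl.injEq, Prod.mk.injEq] at this
    exact this.1
  have hπb : Function.Bijective π := hπinj.bijective_of_finite
  choose f hf using hπ
  have hinr : ∀ i, g (Sum.inr i) = Sum.inr i := by
    intro i
    rcases hz : g (Sum.inr i) with ⟨c, j⟩ | i'
    · obtain ⟨a, rfl⟩ := hπb.2 c
      obtain ⟨j', hj'⟩ := hπs a j
      simpa using g.injective (hz.trans hj'.symm)
    · have : Subsingleton (Fin r) := Fin.subsingleton_iff_le_one.2 hr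
      rw [Subsingleton.elim i' i]
  have haff : ∀ a, ∃ w : (ZMod p)ˣ, ∀ j, f a j = (w : ZMod p) * j + f a 0 := by
    intro a
    obtain ⟨b, -, hb, -, -⟩ := hother a
    have hstep : ∀ j, τ a b (Sum.inl (π a, f a j)) = Sum.inl (π a, f a (j + 1)) := fun j => by
      rw [← hf, ← hf, hτg, tr_inl]
      simp [ev, hb.symm]
    rcases aff_order (h a b hb.symm) (hτp a b) (π a) with h' | ⟨w, hw⟩
    · exact absurd (hstep 0) ((h' (f a 0)).2 _)
    have hw1 : ∀ j, f a (j + 1) = f a j + w := fun j => by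
      have := (hw (f a j)).symm.trans (hstep j)
      simpa using this.symm
    have hnat : ∀ m : ℕ, f a (m : ZMod p) = w * m + f a 0 := by
      intro m
      induction m with
      | zero => simp
      | succ m ih => push_cast; rw [hw1, ih]; ring
    have hw0 : w ≠ 0 := by
      intro e
      have h5 : f a 1 = f a 0 := by simpa [e] using hw1 0
      have h6 := (hf a 1).trans ((congrArg (fun i => Sum.inl (π a, i)) h5).trans (hf a 0).symm)
      simpa using g.injective h6
    refine ⟨Units.mk0 w hw0, fun j => ?_⟩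
    rw [← ZMod.natCast_zmod_val j, hnat, Units.val_mk0]
  choose w hw using haff
  exact ⟨Equiv.ofBijective π hπb, w, fun a => f a 0,
    fun a j => by rw [hf, hw a j]; rfl, hinr⟩

/-- The translations are self-centralizing. -/
theorem mem_T_of_commute (hk : 3 ≤ k) (hr : r ≤ 1) {g : Perm (Pt p k r)}
    (h : ∀ a b : Fin k, a ≠ b → g * tr (ev a b) = tr (ev a b) * g) : g ∈ T p k r := by
  obtain ⟨π, u, v, h1, h2⟩ := aff_of_conj hk hr fun a b hab => by
    rw [h a b hab, mul_inv_cancel_right]; exact aff_tr _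
  have key : ∀ a b, a ≠ b → (u a : ZMod p) = ev a b (π a) := fun a b hab => by
    have h3 := congrArg (fun g : Perm (Pt p k r) => g (Sum.inl (a, 0))) (h a b hab)
    simp only [Perm.mul_apply, tr_inl, h1, Sum.inl.injEq, Prod.mk.injEq, true_and, mul_zero,
      zero_add] at h3
    rw [show ev (p := p) a b a = 1 by simp [ev, hab], mul_one] at h3
    linear_combination h3
  have hπ : ∀ a, π a = a := by
    intro a
    by_contra hne
    have h4 : ∀ b, b ≠ a → π a = b := fun b hb => by
      have h3 := key a b hb.symm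
      exact ((ev_ne hb.symm).1 (h3 ▸ (u a).ne_zero)).resolve_left hne
    have : 1 < (Finset.univ.erase a).card := by simp; omega
    obtain ⟨b, hb, c, hc, hbc⟩ := Finset.one_lt_card.1 this
    exact hbc ((h4 b (Finset.ne_of_mem_erase hb)).symm.trans (h4 c (Finset.ne_of_mem_erase hc)))
  have hu : ∀ a, (u a : ZMod p) = 1 := by
    intro a
    obtain ⟨b, hb⟩ : ∃ b, b ≠ a := by
      have : 1 < Fintype.card (Fin k) := by simp; omega
      exact Fintype.exists_ne_of_one_lt_card this a
    rw [key a b hb.symm, hπ]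
    simp [ev, hb.symm]
  refine ⟨v, Equiv.ext fun z => ?_⟩
  rcases z with ⟨a, j⟩ | i
  · rw [tr_inl, h1, hπ, hu, one_mul]
  · rw [tr_inr, h2]

/-! ### Signs -/

theorem sign_top (π : Perm (Fin k)) : Perm.sign (top (p := p) (r := r) π) = Perm.sign π ^ p := by
  rw [top, Perm.sign_sumCongr, Perm.sign_prodCongrLeft, ← Perm.one_def, map_one, mul_one,
    Finset.prod_const, Finset.card_univ, ZMod.card]

theorem sign_top_two (hp : p = 2) (π : Perm (Fin k)) :
    Perm.sign (top (p := p) (r := r) π) = 1 := by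
  subst hp
  rw [sign_top, sq, Int.units_mul_self]

theorem sign_top_odd (hp : p ≠ 2) (π : Perm (Fin k)) :
    Perm.sign (top (p := p) (r := r) π) = Perm.sign π := by
  rw [sign_top]
  obtain ⟨m, hm⟩ := (Fact.out : p.Prime).odd_of_ne_two hp
  rw [hm, pow_succ, pow_mul, sq, Int.units_mul_self, one_pow, one_mul]

theorem sign_tr_single_two (hp : p = 2) (a : Fin k) :
    Perm.sign (tr (r := r) (Pi.single a (1 : ZMod p))) = -1 := by
  subst hp
  have : tr (r := r) (Pi.single a (1 : ZMod 2)) =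
      Equiv.swap (Sum.inl (a, 0)) (Sum.inl (a, 1)) := Equiv.ext fun z => by
    rcases z with ⟨b, j⟩ | i
    · rcases eq_or_ne b a with rfl | hb
      · rw [tr_inl, Pi.single_eq_same]
        fin_cases j
        · exact (Equiv.swap_apply_left _ _).symm
        · exact (Equiv.swap_apply_right _ _).symm
      · rw [tr_inl, Pi.single_eq_of_ne hb, add_zero,
          Equiv.swap_apply_of_ne_of_ne (by simp [hb]) (by simp [hb])]
    · rw [tr_inr, Equiv.swap_apply_of_ne_of_ne (by simp) (by simp)]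
  rw [this, Perm.sign_swap (by simp)]

theorem sign_tr_single (a b : Fin k) (x : ZMod p) :
    Perm.sign (tr (r := r) (Pi.single a x)) = Perm.sign (tr (r := r) (Pi.single b x)) := by
  have h : top (p := p) (r := r) (Equiv.swap a b) * tr (Pi.single a x) *
      (top (Equiv.swap a b))⁻¹ = tr (Pi.single b x) := by
    rw [aff_conj_tr (π := Equiv.swap a b) (u := 1) (v := 0) (fun c j => by simp) (fun i => rfl)]
    congr 1
    funext c
    simp [Pi.single_apply, Equiv.swap_apply_eq_iff]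
  rw [← h, map_mul, map_mul, map_inv, mul_comm (Perm.sign (top _)), mul_inv_cancel_right]

theorem sign_tr_ev (a b : Fin k) : Perm.sign (tr (r := r) (ev (p := p) a b)) = 1 := by
  rw [ev, sub_eq_add_neg, tr_add, tr_neg, map_mul, map_inv, sign_tr_single a b, mul_inv_cancel]

theorem sign_dg_pair (a b : Fin k) (x : (ZMod p)ˣ) :
    Perm.sign (dg (r := r) (Pi.mulSingle a x * Pi.mulSingle b x⁻¹)) = 1 := by
  have h : top (p := p) (r := r) (Equiv.swap a b) * dg (Pi.mulSingle b x⁻¹) *
      (top (Equiv.swap a b))⁻¹ = dg (Pi.mulSingle a x⁻¹) := by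
    rw [← top_inv, Equiv.swap_inv]
    refine Equiv.ext fun z => ?_
    rcases z with ⟨c, j⟩ | i
    · simp only [Perm.mul_apply, top_inl, dg_inl, Equiv.swap_apply_self, Pi.mulSingle_apply,
        Equiv.swap_apply_eq_iff, Equiv.swap_apply_right]
    · rfl
  have h1 : Perm.sign (dg (r := r) (Pi.mulSingle b x⁻¹)) =
      Perm.sign (dg (r := r) (Pi.mulSingle a x⁻¹)) := by
    rw [← h, map_mul, map_mul, map_inv, mul_comm (Perm.sign (top _)), mul_inv_cancel_right]
  rw [dg_mul, map_mul, h1, ← map_mul, ← dg_mul, ← Pi.mulSingle_mul, mul_inv_cancel,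
    Pi.mulSingle_one, dg_one, map_one]

theorem sign_of_pow_eq_one (hp : p ≠ 2) {α : Type*} [Fintype α] [DecidableEq α] {x : Perm α}
    {j : ℕ} (hx : x ^ p ^ j = 1) : Perm.sign x = 1 := by
  have h := congrArg Perm.sign hx
  rw [map_pow, map_one] at h
  obtain ⟨m, hm⟩ := ((Fact.out : p.Prime).odd_of_ne_two hp).pow (n := j)
  rwa [hm, pow_succ, pow_mul, sq, Int.units_mul_self, one_pow, one_mul] at h

end Cfsg.Agent.Fusion.AltSimple
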