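/-
The translations inside the alternating group: normalizer, Sylow overgroup, fusion of elements of
prime order, generation.
-/
import Mathlib
import Cfsg.Agent.Lib.Fusion.AltSimple.Base
import Cfsg.Agent.Lib.Fusion.SimpleLocal

set_option autoImplicit false
set_option linter.unusedSectionVars false

namespace Cfsg.Agent.Fusion.AltSimple

open Equiv Cfsg.Agent.Fusion.Saturation

variable {p k r : ℕ} [Fact p.Prime]

/-- The alternating group on the points. -/
abbrev Alt (p k r : ℕ) [Fact p.Prime] : Subgroup (Perm (Pt p k r)) := alternatingGroup (Pt p k r)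

/-- The even translations. -/
def Bs (p k r : ℕ) [Fact p.Prime] : Subgroup (Alt p k r) := (T p k r).subgroupOf (Alt p k r)

theorem mem_Bs {x : Alt p k r} : x ∈ Bs p k r ↔ (x : Perm (Pt p k r)) ∈ T p k r := Iff.rfl

theorem sign_coe (x : Alt p k r) : Perm.sign (x : Perm (Pt p k r)) = 1 :=
  Perm.mem_alternatingGroup.1 x.2

/-- An even translation on two blocks. -/
def Bev (a b : Fin k) : Alt p k r :=
  ⟨tr (ev a b), Perm.mem_alternatingGroup.2 (sign_tr_ev a b)⟩

theorem Bev_mem (a b : Fin k) : Bev a b ∈ Bs p k r := tr_mem _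

theorem aff_of_mem_T {g : Perm (Pt p k r)} (hg : g ∈ T p k r) : Aff g := by
  obtain ⟨v, rfl⟩ := hg
  exact aff_tr v

theorem mem_normalizer_iff (hk : 3 ≤ k) (hr : r ≤ 1) {x : Alt p k r} :
    x ∈ Subgroup.normalizer (Bs p k r : Set (Alt p k r)) ↔ Aff (x : Perm (Pt p k r)) := by
  refine ⟨fun h => aff_of_conj hk hr fun a b _ => ?_, fun h => ?_⟩
  · exact aff_of_mem_T ((Subgroup.mem_normalizer_iff.1 h (Bev a b)).1 (Bev_mem a b))
  · exact mem_normalizer_of_forall fun y hy => aff_conj_mem h hy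

theorem rigid (hk : 3 ≤ k) (hr : r ≤ 1) (g : Alt p k r)
    (h : ∀ b ∈ Bs p k r, g * b * g⁻¹ ∈ Subgroup.normalizer (Bs p k r : Set (Alt p k r))) :
    g ∈ Subgroup.normalizer (Bs p k r : Set (Alt p k r)) :=
  (mem_normalizer_iff hk hr).2 <| aff_of_conj hk hr fun a b _ =>
    (mem_normalizer_iff hk hr).1 (h (Bev a b) (Bev_mem a b))

theorem centric (hk : 3 ≤ k) (hr : r ≤ 1) :
    Subgroup.centralizer (Bs p k r : Set (Alt p k r)) ≤ Bs p k r := fun x hx =>
  mem_T_of_commute hk hr fun a b _ =>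
    (congrArg Subtype.val (Subgroup.mem_centralizer_iff.1 hx (Bev a b) (Bev_mem a b))).symm

theorem Bs_ne_bot (hk : 3 ≤ k) : Bs p k r ≠ ⊥ := by
  obtain ⟨a, b, hab⟩ : ∃ a b : Fin k, a ≠ b := ⟨⟨0, by omega⟩, ⟨1, by omega⟩, by simp⟩
  intro h
  have h1 : Bev a b = (1 : Alt p k r) := Subgroup.mem_bot.1 (h ▸ Bev_mem a b)
  have h2 : tr (r := r) (ev (p := p) a b) = tr 0 := by
    rw [tr_zero]; exact congrArg Subtype.val h1
  have h3 := congrFun (tr_injective h2) a
  simp [ev, hab] at h3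

theorem isPGroup_T : IsPGroup p (T p k r) := fun x => ⟨1, Subtype.ext <| by
  obtain ⟨v, hv⟩ := x.2
  rw [SubgroupClass.coe_pow, pow_one, ← hv, tr_pow_self, OneMemClass.coe_one]⟩

theorem padicValNat_card (hr : r ≤ 1) :
    padicValNat p (Nat.card (Perm (Pt p k r))) = padicValNat p k.factorial + k := by
  have hrp : r < p := lt_of_le_of_lt hr (Fact.out : p.Prime).one_lt
  rw [Nat.card_perm, Nat.card_sum, Nat.card_prod, Nat.card_fin, Nat.card_fin, Nat.card_zmod,
    mul_comm k p, padicValNat_factorial_mul_add k hrp, padicValNat_factorial_mul]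

/-- The permutations of the blocks. -/
def topHom : Perm (Fin k) →* Perm (Pt p k r) := MonoidHom.mk' top top_mul

theorem nontrivial_Pt (hk : 3 ≤ k) : Nontrivial (Pt p k r) :=
  ⟨Sum.inl (⟨0, by omega⟩, 0), Sum.inl (⟨1, by omega⟩, 0), by simp⟩

theorem sylow (hk : 3 ≤ k) (hr : r ≤ 1) : ∃ P : Sylow p (Alt p k r), Bs p k r ≤ P ∧
    (P : Subgroup (Alt p k r)) ≤ Subgroup.normalizer (Bs p k r : Set (Alt p k r)) := by
  have hp := (Fact.out : p.Prime)
  have := nontrivial_Pt (p := p) (r := r) hk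
  let P₁ : Sylow p (Perm (Fin k)) := default
  let W := (P₁ : Subgroup (Perm (Fin k))).map (topHom (p := p) (r := r)) ⊔ T p k r
  have hWaff : W ≤ AffG p k r := sup_le (by rintro _ ⟨π, -, rfl⟩; exact aff_top π)
    fun g hg => aff_of_mem_T hg
  have hW : IsPGroup p W := by
    refine IsPGroup.to_sup_of_normal_right' (P₁.2.map _) isPGroup_T ?_
    rintro _ ⟨π, -, rfl⟩
    exact affG_le_normalizer (aff_top π)
  obtain ⟨m, hm⟩ := hW.exists_card_eq
  have hN := padicValNat_card (p := p) (k := k) hr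
  have hlow : p ^ padicValNat p (Nat.card (Perm (Pt p k r))) ≤ Nat.card W := by
    rw [hN, pow_add, ← Nat.factorization_def _ hp]
    have h1 : Nat.card ((Fin k → ZMod p) × (P₁ : Subgroup (Perm (Fin k)))) =
        p ^ k.factorial.factorization p * p ^ k := by
      rw [Nat.card_prod, Nat.card_fun, Nat.card_zmod, Nat.card_fin, P₁.card_eq_multiplicity,
        Nat.card_perm, Nat.card_fin, mul_comm]
    rw [← h1]
    refine Nat.card_le_card_of_injective (fun x => (⟨tr x.1 * topHom x.2.1,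
      W.mul_mem (Subgroup.mem_sup_right (tr_mem _)) (Subgroup.mem_sup_left ⟨_, x.2.2, rfl⟩)⟩ : W))
      ?_
    rintro ⟨v, π, hπ⟩ ⟨w, ρ, hρ⟩ h
    have key : ∀ a, π a = ρ a ∧ v (π a) = w (ρ a) := fun a => by
      have h2 := congrArg (fun g : Perm (Pt p k r) => g (Sum.inl (a, 0))) (congrArg Subtype.val h)
      simpa [topHom, Perm.mul_apply] using h2
    obtain rfl : π = ρ := Equiv.ext fun a => (key a).1
    obtain rfl : v = w := funext fun b => by
      have := (key (π⁻¹ b)).2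
      simpa using this
    rfl
  have hcard : Nat.card (Perm (Pt p k r)) ≠ 0 := Nat.card_ne_zero.2 ⟨⟨1⟩, inferInstance⟩
  have hmN : m = padicValNat p (Nat.card (Perm (Pt p k r))) := by
    refine le_antisymm ((padicValNat_dvd_iff_le hcard).1 ?_) ?_
    · exact hm ▸ W.card_subgroup_dvd_card
    · exact (Nat.pow_le_pow_iff_right hp.one_lt).1 (hm ▸ hlow)
  let ψ : W →* ℤˣ := Perm.sign.comp W.subtype
  let W' := W.subgroupOf (Alt p k r)
  have h1 : Nat.card ψ.ker ≤ Nat.card W' := by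
    refine Nat.card_le_card_of_injective
      (fun x => (⟨⟨x.1.1, Perm.mem_alternatingGroup.2 x.2⟩, x.1.2⟩ : W')) fun x y h => ?_
    exact Subtype.ext (Subtype.ext (congrArg (fun z : W' => (z : Perm (Pt p k r))) h))
  have h2 : Nat.card ψ.ker * Nat.card ψ.range = p ^ m := by
    rw [← Subgroup.index_ker, ψ.ker.card_mul_index, hm]
  have h3 : Nat.card ψ.range ∣ 2 := by
    have := ψ.range.card_subgroup_dvd_card
    simpa [Nat.card_eq_fintype_card] using this
  have hW' : IsPGroup p W' := hW.comap_subtype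
  obtain ⟨P, hP⟩ := hW'.exists_le_sylow
  obtain ⟨l, hl⟩ := P.2.exists_card_eq
  have h4 : 2 * p ^ l ∣ Nat.card (Perm (Pt p k r)) := by
    rw [← two_mul_nat_card_alternatingGroup, ← hl]
    exact mul_dvd_mul_left 2 (P : Subgroup (Alt p k r)).card_subgroup_dvd_card
  have h5 : p ^ l ≤ Nat.card W' := by
    refine le_trans ?_ h1
    rcases eq_or_ne p 2 with h | h
    · have h6 : 2 * p ^ l = p ^ (l + 1) := by rw [pow_succ, mul_comm, h]
      rw [h6, padicValNat_dvd_iff_le hcard, ← hmN] at h4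
      have h7 := Nat.pow_le_pow_right hp.pos h4
      have h8 := Nat.le_of_dvd two_pos h3
      have h9 : Nat.card ψ.ker * Nat.card ψ.range ≤ Nat.card ψ.ker * 2 :=
        Nat.mul_le_mul_left _ h8
      rw [h2, ← h6] at *
      omega
    · have h6 : Nat.card ψ.range = 1 :=
        Nat.dvd_one.1 (((Nat.coprime_primes hp Nat.prime_two).2 h |>.pow_left m) ▸
          Nat.dvd_gcd (Dvd.intro_left _ h2) h3)
      rw [h6, mul_one] at h2
      rw [h2]
      refine Nat.pow_le_pow_right hp.pos (hmN ▸ (padicValNat_dvd_iff_le hcard).1 ?_)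
      exact dvd_of_mul_left_dvd h4
  have hPW : W' = P := Subgroup.eq_of_le_of_card_ge hP (hl.le.trans h5)
  refine ⟨P, fun x hx => hP (Subgroup.mem_sup_right (mem_Bs.1 hx) : (x : Perm _) ∈ W), ?_⟩
  rw [← hPW]
  exact fun x hx => (mem_normalizer_iff hk hr).2 (hWaff hx)

theorem exists_odd_aff (hk : 3 ≤ k) :
    ∃ c : Perm (Pt p k r), Aff c ∧ Perm.sign c = -1 := by
  let a : Fin k := ⟨0, by omega⟩
  let b : Fin k := ⟨1, by omega⟩
  rcases eq_or_ne p 2 with hp | hp
  · exact ⟨_, aff_tr _, sign_tr_single_two hp a⟩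
  · exact ⟨_, aff_top (Equiv.swap a b), by
      rw [sign_top_odd hp, Perm.sign_swap (by simp [a, b])]⟩

theorem fuse (hk : 3 ≤ k) (hr : r ≤ 1) (z : Alt p k r) (hz : orderOf z = p) :
    ∃ g, g * z * g⁻¹ ∈ Bs p k r := by
  have hp := (Fact.out : p.Prime)
  rw [← Subgroup.orderOf_coe] at hz
  set x : Perm (Pt p k r) := (z : Perm (Pt p k r))
  obtain ⟨j, hj⟩ := Perm.cycleType_prime_order (σ := x) (by rw [hz]; exact hp)
  rw [hz] at hj
  have hjk : j + 1 ≤ k := by
    have h1 := x.sum_cycleType_le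
    rw [hj, Multiset.sum_replicate, Fintype.card_sum, Fintype.card_prod, ZMod.card,
      Fintype.card_fin, Fintype.card_fin, smul_eq_mul] at h1
    have h2 : (j + 1) * p < (k + 1) * p := by
      rw [add_mul k, one_mul]; have := hp.one_lt; omega
    have := Nat.lt_of_mul_lt_mul_right h2
    omega
  obtain ⟨s, -, hs⟩ := Finset.exists_subset_card_eq (s := (Finset.univ : Finset (Fin k)))
    (n := j + 1) (by simpa using hjk)
  let v : Fin k → ZMod p := fun a => if a ∈ s then 1 else 0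
  have hsupp : (tr (r := r) v).support =
      (s ×ˢ (Finset.univ : Finset (ZMod p))).map Function.Embedding.inl := by
    ext w
    rcases w with ⟨a, i⟩ | i <;> simp [v]
  have hv1 : tr (r := r) v ≠ 1 := by
    intro h
    have h2 := congrArg Finset.card (hsupp.symm.trans (Perm.support_eq_empty_iff.2 h))
    simp [hs, hp.ne_zero] at h2
  obtain ⟨i, hi⟩ := Perm.cycleType_prime_order (σ := tr (r := r) v)
    (by rw [orderOf_eq_prime (tr_pow_self v) hv1]; exact hp)
  rw [orderOf_eq_prime (tr_pow_self v) hv1] at hi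
  have hij : i = j := by
    have h1 := (tr (r := r) v).sum_cycleType
    rw [hi, hsupp, Multiset.sum_replicate, smul_eq_mul, Finset.card_map, Finset.card_product, hs,
      Finset.card_univ, ZMod.card] at h1
    have := Nat.eq_of_mul_eq_mul_right hp.pos h1
    omega
  obtain ⟨c, hc⟩ := isConj_iff.1 (Perm.isConj_iff_cycleType_eq.2 (hj.trans (hij ▸ hi).symm))
  rcases Int.units_eq_one_or (Perm.sign c) with h | h
  · exact ⟨⟨c, Perm.mem_alternatingGroup.2 h⟩, ⟨v, hc.symm⟩⟩
  · obtain ⟨d, hd, hds⟩ := exists_odd_aff (p := p) (r := r) hk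
    refine ⟨⟨d * c, Perm.mem_alternatingGroup.2 (by rw [map_mul, h, hds]; decide)⟩, ?_⟩
    show d * c * x * (d * c)⁻¹ ∈ T p k r
    rw [show d * c * x * (d * c)⁻¹ = d * (c * x * c⁻¹) * d⁻¹ by group, hc]
    exact aff_conj_mem hd (tr_mem v)

theorem gen (Φ : Alt p k r → Prop) (hpr : ∀ x, orderOf x = p → Φ x) (h1 : Φ 1)
    (hmul : ∀ P : Subgroup (Alt p k r), IsPGroup p P → ∀ x ∈ P, ∀ y ∈ P, Φ x → Φ y → Φ (x * y))
    (x : Alt p k r) (j : ℕ) (hx : orderOf x = p ^ j) : Φ x := by
  rcases eq_or_ne p 2 with rfl | hp2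
  · by_cases hx1 : x = 1
    · exact hx1 ▸ h1
    obtain ⟨y, hy1, hy2, hy3⟩ := PElements.exists_even_inverter (x := (x : Perm (Pt 2 k r))) (a := j)
      (by rw [Subgroup.orderOf_coe, hx]) (fun h => hx1 (Subtype.ext h))
    let Y : Alt 2 k r := ⟨y, Perm.mem_alternatingGroup.2 hy1⟩
    have hY2 : Y * Y = 1 := Subtype.ext hy2
    have hY3 : Y * x * Y⁻¹ = x⁻¹ := Subtype.ext hy3
    have hinv : ∀ w : Alt 2 k r, w * w = 1 → Φ w := fun w hw => by
      rcases eq_or_ne w 1 with rfl | h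
      · exact h1
      · exact hpr w (orderOf_eq_prime (by rw [sq, hw]) h)
    have hP : IsPGroup 2 (Subgroup.zpowers Y ⊔ Subgroup.zpowers x : Subgroup (Alt 2 k r)) := by
      refine IsPGroup.to_sup_of_normal_right' ?_ (SimpleLocal.isPGroup_zpowers hx) ?_
      · obtain ⟨i, -, hi⟩ := (Nat.dvd_prime_pow Nat.prime_two).1
          (orderOf_dvd_of_pow_eq_one (show Y ^ 2 ^ 1 = 1 by rw [pow_one, sq, hY2]))
        exact SimpleLocal.isPGroup_zpowers hi
      · rw [Subgroup.zpowers_le]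
        refine mem_normalizer_of_forall fun w hw => ?_
        obtain ⟨i, rfl⟩ := Subgroup.mem_zpowers_iff.1 hw
        rw [← conj_zpow, hY3]
        exact Subgroup.zpow_mem _ (Subgroup.inv_mem _ (Subgroup.mem_zpowers x)) _
    have h2 : Φ (Y * x) := hinv _ (by
      rw [show Y * x * (Y * x) = (Y * x * Y⁻¹) * (Y * Y) * x by group, hY3, hY2, mul_one,
        inv_mul_cancel])
    have h3 := hmul _ hP Y (Subgroup.mem_sup_left (Subgroup.mem_zpowers Y)) (Y * x)
      (mul_mem (Subgroup.mem_sup_left (Subgroup.mem_zpowers Y))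
        (Subgroup.mem_sup_right (Subgroup.mem_zpowers x))) (hinv Y hY2) h2
    rwa [← mul_assoc, hY2, one_mul] at h3
  · have key := PElements.induction_prime_pow (p := p)
      (fun g : Perm (Pt p k r) => ∀ hg : g ∈ Alt p k r, Φ ⟨g, hg⟩) (fun _ => h1)
      (fun g hg h => hpr _ (by rw [Subgroup.orderOf_mk, hg]))
      (fun P hP a ha b hb hΦa hΦb h => by
        have hev : ∀ g ∈ P, g ∈ Alt p k r := fun g hg => by
          obtain ⟨i, hi⟩ := hP ⟨g, hg⟩
          exact Perm.mem_alternatingGroup.2 (sign_of_pow_eq_one hp2 (congrArg Subtype.val hi))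
        exact hmul (P.subgroupOf (Alt p k r)) hP.comap_subtype ⟨a, hev a ha⟩ ha ⟨b, hev b hb⟩ hb
          (hΦa _) (hΦb _))
      j (x : Perm (Pt p k r)) (by rw [← hx, ← Subgroup.orderOf_coe, pow_orderOf_eq_one])
    exact key x.2

end Cfsg.Agent.Fusion.AltSimple
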