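/-
Fusion-closed subgroups meeting the translations contain all of them.
-/
import Mathlib
import Cfsg.Agent.Lib.Fusion.AltSimple.Core

set_option autoImplicit false
set_option linter.unusedSectionVars false

namespace Cfsg.Agent.Fusion.AltSimple

open Equiv Cfsg.Agent.Fusion.Saturation

variable {p k r : ℕ} [Fact p.Prime]

/-- The vectors whose translations lie in a subgroup. -/
def vecs (V : Subgroup (Perm (Pt p k r))) : AddSubgroup (Fin k → ZMod p) where
  carrier := {v | tr v ∈ V}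
  zero_mem' := by simp [tr_zero, one_mem]
  add_mem' {v w} hv hw := by
    show tr (v + w) ∈ V
    rw [tr_add]; exact mul_mem hv hw
  neg_mem' {v} hv := by
    show tr (-v) ∈ V
    rw [tr_neg]; exact Subgroup.inv_mem _ hv

theorem mem_vecs {V : Subgroup (Perm (Pt p k r))} {v : Fin k → ZMod p} :
    v ∈ vecs V ↔ tr v ∈ V := Iff.rfl

theorem zmod_two_cases : ∀ t : ZMod 2, t = 0 ∨ t = 1 := by decide

theorem zmod_two_one_add_one : (1 : ZMod 2) + 1 = 0 := by decide

theorem exists_third (hk : 3 ≤ k) (a b : Fin k) : ∃ c, c ≠ a ∧ c ≠ b := by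
  by_contra h
  push Not at h
  have h1 : (Finset.univ : Finset (Fin k)) ⊆ {a, b} := fun c _ => by
    rcases eq_or_ne c a with rfl | hc
    · simp
    · simp [h c hc]
  have := (Finset.card_le_card h1).trans Finset.card_le_two
  rw [Finset.card_univ, Fintype.card_fin] at this
  omega

/-- Closure under even permutations normalizing the translations. -/
def Moves (W : AddSubgroup (Fin k → ZMod p)) (r : ℕ) : Prop :=
  ∀ (g : Perm (Pt p k r)) (π : Perm (Fin k)) (u : Fin k → (ZMod p)ˣ) (v : Fin k → ZMod p),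
    (∀ a j, g (Sum.inl (a, j)) = Sum.inl (π a, (u a : ZMod p) * j + v a)) →
    (∀ i, g (Sum.inr i) = Sum.inr i) → Perm.sign g = 1 → ∀ x ∈ W,
    (fun b => (u (π⁻¹ b) : ZMod p) * x (π⁻¹ b)) ∈ W

theorem moves_top {W : AddSubgroup (Fin k → ZMod p)} (hW : Moves W r) (π : Perm (Fin k))
    (hπ : Perm.sign (top (p := p) (r := r) π) = 1) {x : Fin k → ZMod p} (hx : x ∈ W) :
    (fun b => x (π⁻¹ b)) ∈ W := by
  simpa using hW _ π 1 0 (fun a j => by simp) (fun i => rfl) hπ x hx

theorem span_odd (hp : p ≠ 2) (hk : 3 ≤ k) {W : AddSubgroup (Fin k → ZMod p)} (hW : Moves W r)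
    {v : Fin k → ZMod p} (hv : v ∈ W) (hv0 : v ≠ 0) : W = ⊤ := by
  obtain ⟨a, ha⟩ := Function.ne_iff.1 hv0
  obtain ⟨b, hb, -⟩ := exists_third hk a a
  obtain ⟨c, hca, hcb⟩ := exists_third hk a b
  have hdiff : ∀ b', ∀ x ∈ W,
      (fun d => x d - ((Pi.mulSingle a (-1) * Pi.mulSingle b' (-1)⁻¹ : Fin k → (ZMod p)ˣ) d :
        ZMod p) * x d) ∈ W := fun b' x hx => by
    refine W.sub_mem hx ?_
    exact hW (dg (Pi.mulSingle a (-1) * Pi.mulSingle b' (-1)⁻¹)) 1
      (Pi.mulSingle a (-1) * Pi.mulSingle b' (-1)⁻¹) 0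
      (fun a j => by simp) (fun i => rfl) (sign_dg_pair a b' (-1)) x hx
  have h1 := hdiff b v hv
  have h2 := hdiff c _ h1
  have h3 : Pi.single a (4 * v a) ∈ W := by
    convert h2 using 1
    funext d
    rcases eq_or_ne d a with rfl | hda
    · simp [hb.symm, hca.symm]; ring
    rcases eq_or_ne d b with rfl | hdb
    · simp [hda, hcb.symm]
    · rcases eq_or_ne d c with rfl | hdc <;> simp [*]
  have hne : 4 * v a ≠ 0 := by
    refine mul_ne_zero ?_ ha
    have h2 : ((2 : ℕ) : ZMod p) ≠ 0 := fun h =>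
      hp ((Nat.prime_dvd_prime_iff_eq Fact.out Nat.prime_two).1 ((ZMod.natCast_eq_zero_iff _ _).1 h))
    rw [show (4 : ZMod p) = (2 : ℕ) * (2 : ℕ) by norm_num]
    exact mul_ne_zero h2 h2
  have h4 : ∀ y, Pi.single a y ∈ W := fun y => by
    have := W.nsmul_mem h3 (y / (4 * v a)).val
    rwa [← Pi.single_smul, nsmul_eq_mul, ZMod.natCast_zmod_val, div_mul_cancel₀ _ hne] at this
  have h5 : ∀ d y, Pi.single d y ∈ W := by
    intro d y
    rcases eq_or_ne d a with rfl | hda
    · exact h4 y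
    obtain ⟨e, hea, hed⟩ := exists_third hk a d
    set π : Perm (Fin k) := Equiv.swap a e * Equiv.swap a d
    have hπ : π a = d := by
      simp [π, Perm.mul_apply, Equiv.swap_apply_of_ne_of_ne hda hed.symm]
    have h6 := moves_top hW π (by
      rw [sign_top_odd hp, map_mul, Perm.sign_swap hea.symm, Perm.sign_swap hda.symm]; decide)
      (h4 y)
    convert h6 using 1
    funext z
    simp only [Pi.single_apply]
    refine if_congr ?_ rfl rfl
    rw [← hπ, Perm.coe_inv, Equiv.symm_apply_eq]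
  refine eq_top_iff.2 fun x _ => ?_
  rw [← Finset.univ_sum_single x]
  exact AddSubgroup.sum_mem _ fun d _ => h5 d _

theorem span_two (hp : p = 2) {W : AddSubgroup (Fin k → ZMod p)} (hW : Moves W r)
    {a b : Fin k} (hab : a ≠ b) (hev : ev a b ∈ W)
    {x : Fin k → ZMod p} (hx : Perm.sign (tr (r := r) x) = 1) : x ∈ W := by
  subst hp
  have hall : ∀ c d, c ≠ d → ev (p := 2) c d ∈ W := by
    intro c d hcd
    set π : Perm (Fin k) := Equiv.swap (Equiv.swap a c b) d * Equiv.swap a c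
    have hπa : π a = c := by
      have hne : c ≠ Equiv.swap a c b := fun e => hab (by
        have := congrArg (Equiv.swap a c) e
        simpa using this)
      simp [π, Perm.mul_apply, Equiv.swap_apply_of_ne_of_ne hne hcd]
    have hπb : π b = d := by simp [π, Perm.mul_apply]
    have h6 := moves_top hW π (sign_top_two rfl π) hev
    convert h6 using 1
    funext z
    simp only [ev, Pi.sub_apply, Pi.single_apply]
    congr 1 <;> refine if_congr ?_ rfl rfl
    · rw [← hπa, Perm.coe_inv, Equiv.symm_apply_eq]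
    · rw [← hπb, Perm.coe_inv, Equiv.symm_apply_eq]
  let y : Fin k → ZMod 2 := ∑ d, (x d).val • ev d a
  have hy : y ∈ W := AddSubgroup.sum_mem _ fun d _ => by
    rcases eq_or_ne d a with rfl | hd
    · simp [ev]
    · exact W.nsmul_mem (hall d a hd) _
  have hyS : Perm.sign (tr (r := r) y) = 1 := by
    suffices h : ∀ s : Finset (Fin k),
        Perm.sign (tr (r := r) (∑ d ∈ s, (x d).val • ev (p := 2) d a)) = 1 from h _
    intro s
    induction s using Finset.induction_on with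
    | empty => rw [Finset.sum_empty, tr_zero, map_one]
    | insert d s hds ih =>
      rw [Finset.sum_insert hds, tr_add, map_mul, ih, tr_nsmul, map_pow, sign_tr_ev, one_pow,
        one_mul]
  have hxy : x = y + Pi.single a (∑ d, x d) := by
    funext z
    have hy' : y z = x z - if z = a then ∑ d, x d else 0 := by
      simp only [y, Finset.sum_apply, Pi.smul_apply]
      simp only [ev, Pi.sub_apply, nsmul_eq_mul,
        ZMod.natCast_zmod_val, mul_sub, Pi.single_apply, mul_ite, mul_one, mul_zero,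
        Finset.sum_sub_distrib, Finset.sum_ite_eq, Finset.mem_univ, if_true]
      split_ifs <;> simp
    rw [Pi.add_apply, hy', Pi.single_apply]
    ring
  rcases zmod_two_cases (∑ d, x d) with h | h
  · rw [hxy, h, Pi.single_zero, add_zero]; exact hy
  · rw [hxy, h, tr_add, map_mul, hyS, one_mul, sign_tr_single_two rfl] at hx
    exact absurd hx (by decide)

/-- In characteristic two the translations can be moved inside a bigger subgroup. -/
theorem exists_ev_two (hp : p = 2) (hk : 3 ≤ k) {a b : Fin k} (hab : a ≠ b)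
    {V : Subgroup (Perm (Pt p k r))}
    (hcl : ∀ g : Perm (Pt p k r), Perm.sign g = 1 → ∀ x ∈ V,
      g * x * g⁻¹ ∈ Subgroup.zpowers (top (Equiv.swap a b)) ⊔ T p k r → g * x * g⁻¹ ∈ V)
    {v : Fin k → ZMod p} (hv : tr v ∈ V) (hv0 : v ≠ 0) :
    ∃ a' b', a' ≠ b' ∧ ev a' b' ∈ vecs V := by
  subst hp
  have h01 := zmod_two_cases
  obtain ⟨a', ha'⟩ := Function.ne_iff.1 hv0
  have ha1 : v a' = 1 := (h01 _).resolve_left ha'
  by_cases hfull : ∃ b', v b' = 0
  · obtain ⟨b', hb'⟩ := hfull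
    have hne : a' ≠ b' := fun e => ha' (e ▸ hb')
    refine ⟨a', b', hne, ?_⟩
    have h1 : (fun z => v (Equiv.swap a' b' z)) ∈ vecs V := by
      rw [mem_vecs]
      have hc := aff_conj_tr (g := top (r := r) (Equiv.swap a' b')) (u := 1) (v := 0)
        (π := Equiv.swap a' b') (fun a j => by simp) (fun i => rfl) v
      simp only [Pi.one_apply, Units.val_one, one_mul, Equiv.swap_inv] at hc
      rw [← hc]
      refine hcl _ (sign_top_two rfl _) _ hv ?_
      rw [hc]
      exact Subgroup.mem_sup_right (tr_mem _)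
    convert (vecs V).sub_mem (show v ∈ vecs V from hv) h1 using 1
    funext z
    rcases eq_or_ne z a' with rfl | hz
    · simp [ev, hne, ha1, hb']
    rcases eq_or_ne z b' with rfl | hz'
    · simp [ev, hz, ha1, hb']
    · simp [ev, hz, hz', Equiv.swap_apply_of_ne_of_ne hz hz']
  push Not at hfull
  obtain rfl : v = fun _ => 1 := funext fun z => (h01 _).resolve_left (hfull z)
  refine ⟨a, b, hab, ?_⟩
  obtain ⟨c, hca, hcb⟩ := exists_third hk a b
  let q : Perm (Pt 2 k r) := top (Equiv.swap a b)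
  let u : Fin k → ZMod 2 := fun z => if z = a ∨ z = b then 0 else 1
  let g : Perm (Pt 2 k r) :=
    Equiv.swap (Sum.inl (a, 1)) (Sum.inl (b, 0)) * tr (Pi.single a 1)
  have hg : Perm.sign g = 1 := by
    rw [map_mul, Perm.sign_swap (by simp [hab]), sign_tr_single_two rfl]; decide
  have h11 := zmod_two_one_add_one
  have hab' : b ≠ a := hab.symm
  have hg1 : g * tr (fun _ => 1) * g⁻¹ = q * tr u := by
    rw [mul_inv_eq_iff_eq_mul]
    refine Equiv.ext fun w => ?_
    rcases w with ⟨z, j⟩ | i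
    · rcases eq_or_ne z a with rfl | hza
      · rcases h01 j with rfl | rfl <;>
          simp [g, q, u, Perm.mul_apply, Equiv.swap_apply_def, h11, hab, hab']
      rcases eq_or_ne z b with rfl | hzb
      · rcases h01 j with rfl | rfl <;>
          simp [g, q, u, Perm.mul_apply, Equiv.swap_apply_def, h11, hza, hab]
      · simp [g, q, u, Perm.mul_apply, Equiv.swap_apply_def, hza, hzb]
    · simp [g, q, Perm.mul_apply, Equiv.swap_apply_def]
  have h2 : q * tr u ∈ V := by
    rw [← hg1]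
    refine hcl g hg _ hv ?_
    rw [hg1]
    exact mul_mem (Subgroup.mem_sup_left (Subgroup.mem_zpowers q))
      (Subgroup.mem_sup_right (tr_mem u))
  have h3 := V.mul_mem h2 hv
  let g' : Perm (Pt 2 k r) :=
    Equiv.swap (Sum.inl (a, 0)) (Sum.inl (b, 0)) * tr (Pi.single c 1)
  have hg' : Perm.sign g' = 1 := by
    rw [map_mul, Perm.sign_swap (by simp [hab]), sign_tr_single_two rfl]; decide
  have hg2 : g' * (q * tr u * tr (fun _ => 1)) * g'⁻¹ = tr (ev a b) := by
    rw [mul_inv_eq_iff_eq_mul]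
    refine Equiv.ext fun w => ?_
    rcases w with ⟨z, j⟩ | i
    · rcases eq_or_ne z a with rfl | hza
      · rcases h01 j with rfl | rfl <;>
          simp [g', q, u, ev, Perm.mul_apply, Equiv.swap_apply_def, h11, hab, hab',
            hca.symm, hcb.symm]
      rcases eq_or_ne z b with rfl | hzb
      · rcases h01 j with rfl | rfl <;>
          simp [g', q, u, ev, Perm.mul_apply, Equiv.swap_apply_def, h11, hza, hab,
            hca.symm, hcb.symm]
      · simp [g', q, u, ev, Perm.mul_apply, Equiv.swap_apply_def, hza, hzb, add_assoc, h11]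
    · simp [g', q, Perm.mul_apply, Equiv.swap_apply_def]
  rw [mem_vecs, ← hg2]
  refine hcl g' hg' _ h3 ?_
  rw [hg2]
  exact Subgroup.mem_sup_right (tr_mem _)

theorem closed (hk : 3 ≤ k) (hr : r ≤ 1) :
    ∃ Q : Subgroup (Alt p k r), IsPGroup p Q ∧ Bs p k r ≤ Q ∧ ∀ V : Subgroup (Alt p k r), V ≤ Q →
      (∀ g, ∀ v ∈ V, g * v * g⁻¹ ∈ Q → g * v * g⁻¹ ∈ V) →
      (∃ v ∈ V, v ∈ Bs p k r ∧ v ≠ 1) → Bs p k r ≤ V := by
  -- the closure hypothesis in the symmetric group
  have main : ∀ (Q' : Subgroup (Perm (Pt p k r))) (V : Subgroup (Alt p k r)), T p k r ≤ Q' →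
      (∀ g, ∀ v ∈ V, g * v * g⁻¹ ∈ Q'.subgroupOf (Alt p k r) → g * v * g⁻¹ ∈ V) →
      (∀ g : Perm (Pt p k r), Perm.sign g = 1 → ∀ x ∈ V.map (Alt p k r).subtype,
        g * x * g⁻¹ ∈ Q' → g * x * g⁻¹ ∈ V.map (Alt p k r).subtype) ∧
      Moves (vecs (V.map (Alt p k r).subtype)) r := by
    intro Q' V hTQ hV
    have h1 : ∀ g : Perm (Pt p k r), Perm.sign g = 1 → ∀ x ∈ V.map (Alt p k r).subtype,
        g * x * g⁻¹ ∈ Q' → g * x * g⁻¹ ∈ V.map (Alt p k r).subtype := by
      rintro g hg _ ⟨x, hx, rfl⟩ hgx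
      exact ⟨_, hV ⟨g, Perm.mem_alternatingGroup.2 hg⟩ x hx hgx, rfl⟩
    refine ⟨h1, fun g π u v e1 e2 hg x hx => ?_⟩
    rw [mem_vecs, ← aff_conj_tr e1 e2 x]
    exact h1 g hg _ hx (hTQ (by rw [aff_conj_tr e1 e2 x]; exact tr_mem _))
  rcases eq_or_ne p 2 with hp | hp
  · obtain ⟨a, b, hab⟩ : ∃ a b : Fin k, a ≠ b := ⟨⟨0, by omega⟩, ⟨1, by omega⟩, by simp⟩
    have hQ : IsPGroup p
        (Subgroup.zpowers (top (p := p) (r := r) (Equiv.swap a b)) ⊔ T p k r : Subgroup _) := by
      refine IsPGroup.to_sup_of_normal_right' ?_ isPGroup_T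
        (Subgroup.zpowers_le.2 (affG_le_normalizer (aff_top _)))
      obtain ⟨i, -, hi⟩ := (Nat.dvd_prime_pow (Fact.out : p.Prime)).1 (orderOf_dvd_of_pow_eq_one
        (show top (p := p) (r := r) (Equiv.swap a b) ^ p ^ 1 = 1 by
          rw [pow_one, hp, sq, ← top_mul, Equiv.swap_mul_self, top_one]))
      exact SimpleLocal.isPGroup_zpowers hi
    refine ⟨_, hQ.comap_subtype, fun x hx => Subgroup.mem_sup_right (mem_Bs.1 hx),
      fun V _ hV hex x hx => ?_⟩
    obtain ⟨hcl, hmv⟩ := main _ V le_sup_right hV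
    obtain ⟨v, hv, ⟨w, hw⟩, hv1⟩ := hex
    have hw0 : w ≠ 0 := fun h => hv1 (Subtype.ext (hw.symm.trans (by rw [h, tr_zero]; rfl)))
    obtain ⟨a', b', hne, hev⟩ := exists_ev_two hp hk hab hcl (v := w) ⟨v, hv, hw.symm⟩ hw0
    obtain ⟨y, hy⟩ := hx
    have h2 := span_two hp hmv hne hev (x := y) (by
      rw [hy]; exact Perm.mem_alternatingGroup.1 x.2)
    obtain ⟨z, hz, hz'⟩ := mem_vecs.1 h2
    rwa [← (Subtype.ext (hz'.trans hy) : z = x)]
  · refine ⟨Bs p k r, isPGroup_T.comap_subtype, le_rfl, fun V _ hV hex x hx => ?_⟩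
    obtain ⟨-, hmv⟩ := main (T p k r) V le_rfl hV
    obtain ⟨v, hv, ⟨w, hw⟩, hv1⟩ := hex
    have hw0 : w ≠ 0 := fun h => hv1 (Subtype.ext (hw.symm.trans (by rw [h, tr_zero]; rfl)))
    obtain ⟨y, hy⟩ := hx
    have h2 : y ∈ vecs (V.map (Alt p k r).subtype) := by
      rw [span_odd hp hk hmv (v := w) ⟨v, hv, hw.symm⟩ hw0]; trivial
    obtain ⟨z, hz, hz'⟩ := mem_vecs.1 h2
    rwa [← (Subtype.ext (hz'.trans hy) : z = x)]

end Cfsg.Agent.Fusion.AltSimple
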