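/-
Diagonal matrices of determinant one acting on `p` blocks come from transvections.
-/
import Mathlib
import Cfsg.Agent.Lib.Fusion.AltSimple.Core

set_option autoImplicit false
set_option linter.unusedSectionVars false

namespace Cfsg.Agent.Fusion.AltSimple

open Equiv Cfsg.Agent.Fusion.Saturation

variable {p k r : ℕ} [Fact p.Prime] (ι : ZMod p ↪ Fin k)

/-- The plane formed by `p` blocks. -/
def pln : ZMod p × ZMod p ↪ Pt p k r :=
  ⟨fun z => Sum.inl (ι z.1, z.2), fun z w h => by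
    simp only [Sum.inl.injEq, Prod.mk.injEq, ι.injective.eq_iff] at h
    exact Prod.ext h.1 h.2⟩

theorem pln_apply (i j : ZMod p) : pln (r := r) ι (i, j) = Sum.inl (ι i, j) := rfl

/-- Extension of a permutation of the plane. -/
noncomputable def plnHom : Perm (ZMod p × ZMod p) →* Perm (Pt p k r) :=
  Perm.viaEmbeddingHom (pln ι)

theorem plnHom_apply (σ : Perm (ZMod p × ZMod p)) (z : ZMod p × ZMod p) :
    plnHom (r := r) ι σ (pln ι z) = pln ι (σ z) :=
  Perm.viaEmbedding_apply σ (pln ι) z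

theorem plnHom_out (σ : Perm (ZMod p × ZMod p)) {a : Fin k} (ha : a ∉ Set.range ι) (j : ZMod p) :
    plnHom (r := r) ι σ (Sum.inl (a, j)) = Sum.inl (a, j) :=
  Perm.viaEmbedding_apply_of_notMem σ (pln ι) _ fun ⟨z, hz⟩ =>
    ha ⟨z.1, (Prod.mk.inj (Sum.inl.inj hz)).1⟩

theorem plnHom_inr (σ : Perm (ZMod p × ZMod p)) (i : Fin r) :
    plnHom ι σ (Sum.inr i) = Sum.inr i :=
  Perm.viaEmbedding_apply_of_notMem σ (pln ι) _ fun ⟨z, hz⟩ => by simp [pln] at hz

/-- Translations outside the plane. -/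
def Out (g : Perm (Pt p k r)) : Prop :=
  (∀ a, a ∉ Set.range ι → ∃ w, ∀ j, g (Sum.inl (a, j)) = Sum.inl (a, j + w)) ∧
    ∀ i, g (Sum.inr i) = Sum.inr i

theorem out_one : Out ι (1 : Perm (Pt p k r)) :=
  ⟨fun _ _ => ⟨0, fun j => by simp⟩, fun _ => rfl⟩

theorem out_mul {g h : Perm (Pt p k r)} (hg : Out ι g) (hh : Out ι h) : Out ι (g * h) := by
  refine ⟨fun a ha => ?_, fun i => by rw [Perm.mul_apply, hh.2, hg.2]⟩
  obtain ⟨x, hx⟩ := hh.1 a ha
  obtain ⟨y, hy⟩ := hg.1 a ha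
  exact ⟨x + y, fun j => by rw [Perm.mul_apply, hx, hy, add_assoc]⟩

theorem out_inv {g : Perm (Pt p k r)} (hg : Out ι g) : Out ι g⁻¹ := by
  refine ⟨fun a ha => ?_, fun i => Perm.inv_eq_iff_eq.2 (hg.2 i).symm⟩
  obtain ⟨x, hx⟩ := hg.1 a ha
  exact ⟨-x, fun j => Perm.inv_eq_iff_eq.2 (by rw [hx]; simp)⟩

theorem out_plnHom (σ : Perm (ZMod p × ZMod p)) : Out ι (plnHom (r := r) ι σ) :=
  ⟨fun _ ha => ⟨0, fun j => by rw [plnHom_out ι σ ha, add_zero]⟩, plnHom_inr ι σ⟩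

theorem out_conj (σ : Perm (ZMod p × ZMod p)) {g : Perm (Pt p k r)} (hg : Out ι g) :
    Out ι (plnHom ι σ * g * (plnHom ι σ)⁻¹) :=
  out_mul ι (out_mul ι (out_plnHom ι σ) hg) (out_inv ι (out_plnHom ι σ))

/-- Translations of the plane and translations outside. -/
def Rgrp : Subgroup (Perm (Pt p k r)) where
  carrier := {g | (∃ w, ∀ z, g (pln ι z) = pln ι (z + w)) ∧ Out ι g}
  one_mem' := ⟨⟨0, fun z => by simp⟩, out_one ι⟩
  mul_mem' := by
    rintro g h ⟨⟨w, hw⟩, hg⟩ ⟨⟨x, hx⟩, hh⟩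
    exact ⟨⟨x + w, fun z => by rw [Perm.mul_apply, hx, hw, add_assoc]⟩, out_mul ι hg hh⟩
  inv_mem' := by
    rintro g ⟨⟨w, hw⟩, hg⟩
    exact ⟨⟨-w, fun z => Perm.inv_eq_iff_eq.2 (by rw [hw]; simp)⟩, out_inv ι hg⟩

/-- Shifts of the blocks of the plane combined with all translations. -/
def Wgrp : Subgroup (Perm (Pt p k r)) where
  carrier := {g | (∃ (s : ZMod p) (τ : ZMod p → ZMod p),
    ∀ i j, g (pln ι (i, j)) = pln ι (i + s, j + τ i)) ∧ Out ι g}
  one_mem' := ⟨⟨0, 0, fun i j => by simp⟩, out_one ι⟩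
  mul_mem' := by
    rintro g h ⟨⟨s, τ, hw⟩, hg⟩ ⟨⟨t, σ, hx⟩, hh⟩
    exact ⟨⟨t + s, fun i => σ i + τ (i + t), fun i j => by
      rw [Perm.mul_apply, hx, hw, add_assoc, add_assoc]⟩, out_mul ι hg hh⟩
  inv_mem' := by
    rintro g ⟨⟨s, τ, hw⟩, hg⟩
    exact ⟨⟨-s, fun i => -τ (i - s), fun i j => Perm.inv_eq_iff_eq.2 (by
      rw [hw, ← sub_eq_add_neg, sub_add_cancel, neg_add_cancel_right])⟩, out_inv ι hg⟩

theorem rgrp_le_wgrp : Rgrp (r := r) ι ≤ Wgrp ι := by
  rintro g ⟨⟨w, hw⟩, hg⟩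
  exact ⟨⟨w.1, fun _ => w.2, fun i j => hw (i, j)⟩, hg⟩

theorem t_le_wgrp : T p k r ≤ Wgrp ι := by
  rintro _ ⟨v, rfl⟩
  exact ⟨⟨0, fun i => v (ι i), fun i j => by simp [pln_apply]⟩,
    fun a _ => ⟨v a, fun j => rfl⟩, fun _ => rfl⟩

theorem isPGroup_wgrp : IsPGroup p (Wgrp (r := r) ι) := by
  intro g
  obtain ⟨⟨s, τ, hg⟩, hout⟩ := g.2
  have hm : ∀ m : ℕ, ∀ i, ∃ t, ∀ j,
      ((g : Perm (Pt p k r)) ^ m) (pln ι (i, j)) = pln ι (i + m * s, j + t) := by
    intro m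
    induction m with
    | zero => exact fun i => ⟨0, fun j => by simp⟩
    | succ m ih =>
      intro i
      obtain ⟨t, ht⟩ := ih i
      exact ⟨t + τ (i + m * s), fun j => by
        rw [pow_succ', Perm.mul_apply, ht, hg]
        push_cast
        congr 2
        · ring
        · rw [add_assoc]⟩
  have hgp : ((g : Perm (Pt p k r)) ^ p) ∈ T p k r := by
    have hout' : Out ι ((g : Perm (Pt p k r)) ^ p) := (pow_mem g.2 p).2
    have hall : ∀ a, ∃ w, ∀ j,
        ((g : Perm (Pt p k r)) ^ p) (Sum.inl (a, j)) = Sum.inl (a, j + w) := by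
      intro a
      by_cases ha : a ∈ Set.range ι
      · obtain ⟨i, rfl⟩ := ha
        obtain ⟨t, ht⟩ := hm p i
        exact ⟨t, fun j => by simpa [pln_apply] using ht j⟩
      · exact hout'.1 a ha
    choose v hv using hall
    refine ⟨v, Equiv.ext fun z => ?_⟩
    rcases z with ⟨a, j⟩ | i
    · rw [hv, tr_inl]
    · rw [hout'.2, tr_inr]
  obtain ⟨v, hv⟩ := hgp
  refine ⟨2, Subtype.ext ?_⟩
  rw [SubgroupClass.coe_pow, sq, pow_mul, ← hv, tr_pow_self, OneMemClass.coe_one]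

theorem plnHom_mem_normalizer_rgrp (σ : Perm (ZMod p × ZMod p))
    (hσ : ∀ z w, σ (z + w) = σ z + σ w) :
    plnHom (r := r) ι σ ∈ Subgroup.normalizer ((Rgrp (r := r) ι : Subgroup _) : Set (Perm (Pt p k r))) := by
  refine mem_normalizer_of_forall ?_
  rintro g ⟨⟨w, hw⟩, hg⟩
  refine ⟨⟨σ w, fun z => ?_⟩, out_conj ι σ hg⟩
  obtain ⟨z, rfl⟩ := σ.surjective z
  rw [← plnHom_apply, Perm.mul_apply, Perm.mul_apply, Perm.coe_inv, Equiv.symm_apply_apply, hw,
    plnHom_apply, hσ]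

/-- An upper transvection. -/
def upp (t : ZMod p) : Perm (ZMod p × ZMod p) :=
  ⟨fun z => (z.1 + t * z.2, z.2), fun z => (z.1 - t * z.2, z.2),
    fun z => by simp, fun z => by simp⟩

/-- A lower transvection. -/
def low (t : ZMod p) : Perm (ZMod p × ZMod p) :=
  ⟨fun z => (z.1, z.2 + t * z.1), fun z => (z.1, z.2 - t * z.1),
    fun z => by simp, fun z => by simp⟩

/-- A diagonal matrix of determinant one. -/
def diag (x : (ZMod p)ˣ) : Perm (ZMod p × ZMod p) :=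
  Equiv.prodCongr x.mulLeft x⁻¹.mulLeft

theorem upp_pow (t : ZMod p) (m : ℕ) : upp t ^ m = upp ((m : ZMod p) * t) := by
  induction m with
  | zero => exact Equiv.ext fun z => by simp [upp]
  | succ m ih =>
    rw [pow_succ, ih]
    exact Equiv.ext fun z => by simp [upp, Perm.mul_apply]; ring

theorem low_pow (t : ZMod p) (m : ℕ) : low t ^ m = low ((m : ZMod p) * t) := by
  induction m with
  | zero => exact Equiv.ext fun z => by simp [low]
  | succ m ih =>
    rw [pow_succ, ih]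
    exact Equiv.ext fun z => by simp [low, Perm.mul_apply]; ring

theorem diag_eq (x : (ZMod p)ˣ) :
    diag x = upp (x : ZMod p) * low (-(x⁻¹ : (ZMod p)ˣ) : ZMod p) * upp (x : ZMod p) *
      upp (-1) * low 1 * upp (-1) := by
  refine Equiv.ext fun z => ?_
  have hx : (x : ZMod p) * (x⁻¹ : (ZMod p)ˣ) = 1 := by rw [← Units.val_mul]; simp
  simp only [diag, upp, low, Perm.mul_apply, Equiv.coe_fn_mk, Equiv.prodCongr_apply, Prod.map,
    Units.mulLeft_apply]
  refine Prod.ext ?_ ?_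
  · linear_combination ((x : ZMod p) * z.1 - z.2) * hx
  · linear_combination z.1 * hx

/-- The diagonal element extended to all points. -/
theorem plnHom_diag_aff (x : (ZMod p)ˣ) :
    ∃ (π : Perm (Fin k)) (u : Fin k → (ZMod p)ˣ), (∏ a, u a) = x⁻¹ ∧
      (∀ a j, plnHom (r := r) ι (diag x) (Sum.inl (a, j)) = Sum.inl (π a, (u a : ZMod p) * j)) := by
  refine ⟨Perm.viaEmbedding x.mulLeft ι,
    fun a => if a ∈ Finset.univ.map ι then x⁻¹ else 1, ?_, fun a j => ?_⟩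
  · rw [Finset.prod_ite_mem, Finset.univ_inter, Finset.prod_const, Finset.card_map,
      Finset.card_univ, ZMod.card]
    exact Units.ext (by rw [Units.val_pow_eq_pow_val, ZMod.pow_card])
  · by_cases ha : a ∈ Set.range ι
    · obtain ⟨i, rfl⟩ := ha
      beta_reduce
      rw [Perm.viaEmbedding_apply, if_pos (Finset.mem_map_of_mem ι (Finset.mem_univ i)),
        ← pln_apply, plnHom_apply]
      rfl
    · beta_reduce
      rw [Perm.viaEmbedding_apply_of_notMem _ _ _ ha, if_neg, plnHom_out ι _ ha, Units.val_one,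
        one_mul]
      simpa using ha

theorem plnHom_diag_normalizer_wgrp (x : (ZMod p)ˣ) :
    plnHom (r := r) ι (diag x) ∈ Subgroup.normalizer ((Wgrp (r := r) ι : Subgroup _) : Set (Perm (Pt p k r))) := by
  refine mem_normalizer_of_forall ?_
  rintro g ⟨⟨s, τ, hw⟩, hg⟩
  refine ⟨⟨(x : ZMod p) * s, fun i => (x⁻¹ : (ZMod p)ˣ) * τ ((x⁻¹ : (ZMod p)ˣ) * i),
    fun i j => ?_⟩, out_conj ι _ hg⟩
  obtain ⟨⟨i, j⟩, hij⟩ := (diag x).surjective (i, j)
  simp only [diag, Equiv.prodCongr_apply, Prod.map_apply, Units.mulLeft_apply,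
    Prod.mk.injEq] at hij
  obtain ⟨rfl, rfl⟩ := hij
  have h1 : pln (r := r) ι ((x : ZMod p) * i, (x⁻¹ : (ZMod p)ˣ) * j) =
      plnHom ι (diag x) (pln ι (i, j)) := by rw [plnHom_apply]; rfl
  rw [h1, Perm.mul_apply, Perm.mul_apply, Perm.coe_inv, Equiv.symm_apply_apply, hw, plnHom_apply]
  congr 1
  show ((x : ZMod p) * (i + s), ((x⁻¹ : (ZMod p)ˣ) : ZMod p) * (j + τ i)) = _
  rw [mul_add, mul_add]
  simp only [Units.inv_mul_cancel_left]

/-- The even elements of a subgroup normalized by an even element are normalized by it. -/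
theorem mem_normalizer_subgroupOf {H : Subgroup (Perm (Pt p k r))} {g : Alt p k r}
    (hg : (g : Perm (Pt p k r)) ∈ Subgroup.normalizer (H : Set (Perm (Pt p k r)))) :
    g ∈ Subgroup.normalizer (H.subgroupOf (Alt p k r) : Set (Alt p k r)) :=
  mem_normalizer_of_forall fun y hy => (Subgroup.mem_normalizer_iff.1 hg (y : Perm _)).1 hy

theorem even_of_pow (hp : p ≠ 2) {g : Perm (Pt p k r)} (h : g ^ p = 1) : g ∈ Alt p k r :=
  Perm.mem_alternatingGroup.2 (sign_of_pow_eq_one hp (j := 1) (by rw [pow_one, h]))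

theorem centralizer_rgrp (hp : p ≠ 2) (hr : r ≤ 1) :
    Subgroup.centralizer ((Rgrp (r := r) ι).subgroupOf (Alt p k r) : Set (Alt p k r)) ≤
      (Rgrp ι).subgroupOf (Alt p k r) := by
  intro g hg
  have hcomm : ∀ e ∈ Rgrp ι, ∀ z, e ((g : Perm (Pt p k r)) z) = (g : Perm (Pt p k r)) (e z) := by
    intro e he z
    have heA : e ∈ Alt p k r := by
      obtain ⟨m, hm⟩ := isPGroup_wgrp ι ⟨e, rgrp_le_wgrp ι he⟩
      exact Perm.mem_alternatingGroup.2 (sign_of_pow_eq_one hp (congrArg Subtype.val hm))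
    exact congrArg (fun f : Alt p k r => (f : Perm (Pt p k r)) z)
      (Subgroup.mem_centralizer_iff.1 hg ⟨e, heA⟩ he)
  have hshift : ∀ w : ZMod p × ZMod p, plnHom (r := r) ι (Equiv.addRight w) ∈ Rgrp ι := fun w =>
    ⟨⟨w, fun z => by rw [plnHom_apply]; rfl⟩, out_plnHom ι _⟩
  have hsingle : ∀ a, a ∉ Set.range ι → ∀ t, tr (r := r) (Pi.single a t) ∈ Rgrp ι := fun a ha t => by
    refine ⟨⟨0, ?_⟩, fun b _ => ⟨(Pi.single a t : Fin k → ZMod p) b, fun j => tr_inl _ b j⟩, fun i => rfl⟩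
    rintro ⟨i, j⟩
    rw [pln_apply, tr_inl, Pi.single_eq_of_ne (fun e => ha ⟨i, e⟩), add_zero, add_zero]
    rfl
  set f : Perm (Pt p k r) := (g : Perm (Pt p k r))
  -- the plane
  obtain ⟨w, hw⟩ : ∃ w, f (pln ι 0) = pln ι w := by
    by_contra h
    push Not at h
    have h1 := hcomm _ (hshift (0, 1)) (pln ι 0)
    rw [plnHom_apply] at h1
    have h2 : f (pln ι 0) ∉ Set.range (pln ι) := fun ⟨w, e⟩ => h w e.symm
    have h3 : plnHom ι (Equiv.addRight ((0, 1) : ZMod p × ZMod p)) (f (pln ι 0)) = f (pln ι 0) :=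
      Perm.viaEmbedding_apply_of_notMem _ _ _ h2
    rw [h3] at h1
    have h4 := (pln ι).injective (f.injective h1)
    simp [Prod.ext_iff] at h4
  have hin : ∀ z, f (pln ι z) = pln ι (z + w) := fun z => by
    have h1 := hcomm _ (hshift z) (pln ι 0)
    rw [plnHom_apply, hw, plnHom_apply] at h1
    simpa [add_comm] using h1.symm
  have hout : ∀ a, a ∉ Set.range ι → ∃ t, ∀ j, f (Sum.inl (a, j)) = Sum.inl (a, j + t) := by
    intro a ha
    have h1 := hcomm _ (hsingle a ha 1) (Sum.inl (a, 0))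
    obtain ⟨t, ht⟩ : ∃ t, f (Sum.inl (a, 0)) = Sum.inl (a, t) := by
      rcases hz : f (Sum.inl (a, 0)) with ⟨c, t⟩ | i
      · rcases eq_or_ne c a with rfl | hc
        · exact ⟨t, rfl⟩
        · rw [hz, tr_inl, Pi.single_eq_of_ne hc, add_zero, ← hz] at h1
          simpa using f.injective h1
      · rw [hz, tr_inr, ← hz] at h1
        simpa using f.injective h1
    refine ⟨t, fun j => ?_⟩
    have h2 := hcomm _ (hsingle a ha j) (Sum.inl (a, 0))
    rw [ht, tr_inl, tr_inl, Pi.single_eq_same, zero_add] at h2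
    rw [← h2, add_comm]
  refine ⟨⟨w, hin⟩, hout, fun i => ?_⟩
  rcases hz : f (Sum.inr i) with ⟨c, t⟩ | i'
  · exfalso
    by_cases hc : c ∈ Set.range ι
    · obtain ⟨c, rfl⟩ := hc
      have h1 := hin ((c, t) - w)
      rw [sub_add_cancel, pln_apply, pln_apply, ← hz] at h1
      simpa using f.injective h1
    · obtain ⟨x, hx⟩ := hout c hc
      have h1 := hx (t - x)
      rw [sub_add_cancel, ← hz] at h1
      simpa using f.injective h1
  · have : Subsingleton (Fin r) := Fin.subsingleton_iff_le_one.2 hr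
    exact hz.trans (by rw [Subsingleton.elim i' i])

include ι in
theorem exists_diag (hp : p ≠ 2) (hr : r ≤ 1) (x : (ZMod p)ˣ) :
    ∃ g : Alt p k r, g ∈ SimpleLocal.localElems p (Bs p k r) ∧
      ∃ (π : Perm (Fin k)) (u : Fin k → (ZMod p)ˣ), (∏ a, u a) = x⁻¹ ∧
        (∀ a j, (g : Perm (Pt p k r)) (Sum.inl (a, j)) = Sum.inl (π a, (u a : ZMod p) * j)) ∧
        ∀ i, (g : Perm (Pt p k r)) (Sum.inr i) = Sum.inr i := by
  let R := (Rgrp (r := r) ι).subgroupOf (Alt p k r)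
  have hgen : ∀ σ : Perm (ZMod p × ZMod p), σ ^ p = 1 → (∀ z w, σ (z + w) = σ z + σ w) →
      ∃ y : Alt p k r, y ∈ SimpleLocal.pElems p R ∧ (y : Perm (Pt p k r)) = plnHom ι σ := by
    intro σ h1 h2
    have h3 : plnHom (r := r) ι σ ^ p = 1 := by rw [← map_pow, h1, map_one]
    refine ⟨⟨_, even_of_pow hp h3⟩, ⟨?_, ?_⟩, rfl⟩
    · exact mem_normalizer_subgroupOf (plnHom_mem_normalizer_rgrp ι σ h2)
    · obtain ⟨i, -, hi⟩ := (Nat.dvd_prime_pow (Fact.out : p.Prime)).1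
        (orderOf_dvd_of_pow_eq_one (show (⟨_, even_of_pow hp h3⟩ : Alt p k r) ^ p ^ 1 = 1 from
          Subtype.ext (by rw [pow_one, SubgroupClass.coe_pow]; exact h3)))
      exact ⟨i, hi⟩
  have hu : ∀ t, ∃ y : Alt p k r, y ∈ SimpleLocal.pElems p R ∧
      (y : Perm (Pt p k r)) = plnHom ι (upp t) := fun t => hgen _
    (by rw [upp_pow]; exact Equiv.ext fun z => by simp [upp])
    fun z w => by refine Prod.ext ?_ ?_ <;> simp [upp]; ring
  have hl : ∀ t, ∃ y : Alt p k r, y ∈ SimpleLocal.pElems p R ∧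
      (y : Perm (Pt p k r)) = plnHom ι (low t) := fun t => hgen _
    (by rw [low_pow]; exact Equiv.ext fun z => by simp [low])
    fun z w => by refine Prod.ext ?_ ?_ <;> simp [low]; ring
  obtain ⟨a, ha, ha'⟩ := hu (x : ZMod p)
  obtain ⟨b, hb, hb'⟩ := hl (-(x⁻¹ : (ZMod p)ˣ) : ZMod p)
  obtain ⟨c, hc, hc'⟩ := hu (-1)
  obtain ⟨d, hd, hd'⟩ := hl 1
  have hval : ((a * b * a * c * d * c : Alt p k r) : Perm (Pt p k r)) = plnHom ι (diag x) := by
    rw [diag_eq]
    simp only [Subgroup.coe_mul, map_mul, ha', hb', hc', hd']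
  obtain ⟨π, u, hu1, hu2⟩ := plnHom_diag_aff (r := r) ι x
  refine ⟨a * b * a * c * d * c, ⟨?_, R, (Wgrp ι).subgroupOf (Alt p k r),
    (isPGroup_wgrp ι).comap_subtype, fun y hy => rgrp_le_wgrp ι hy,
    fun y hy => t_le_wgrp ι hy, centralizer_rgrp ι hp hr, ?_, ?_⟩, π, u, hu1, ?_, ?_⟩
  · refine mem_normalizer_of_forall fun y hy => ?_
    show ((a * b * a * c * d * c : Alt p k r) : Perm (Pt p k r)) * y *
      ((a * b * a * c * d * c : Alt p k r) : Perm (Pt p k r))⁻¹ ∈ T p k r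
    rw [hval]
    exact aff_conj_mem ⟨π, u, 0, fun a j => by rw [hu2]; simp, plnHom_inr ι _⟩ hy
  · refine mem_normalizer_subgroupOf ?_
    rw [hval]
    exact plnHom_diag_normalizer_wgrp ι x
  · have h := fun y (hy : y ∈ SimpleLocal.pElems p R) => Subgroup.subset_closure hy
    exact mul_mem (mul_mem (mul_mem (mul_mem (mul_mem (h a ha) (h b hb)) (h a ha)) (h c hc))
      (h d hd)) (h c hc)
  · intro z j
    rw [hval]
    exact hu2 z j
  · intro i
    rw [hval]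
    exact plnHom_inr ι _ i

end Cfsg.Agent.Fusion.AltSimple
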