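/-
The automorphisms of the translations are generated by local `p`-elements.
-/
import Mathlib
import Cfsg.Agent.Lib.Fusion.AltSimple.Transvect
import Cfsg.Agent.Lib.Fusion.AltSimple.Closed

set_option autoImplicit false
set_option linter.unusedSectionVars false
set_option linter.unusedSimpArgs false

namespace Cfsg.Agent.Fusion.AltSimple

open Equiv Cfsg.Agent.Fusion.Saturation

variable {p k r : ℕ} [Fact p.Prime]

theorem zmod_three_units : ∀ y : (ZMod 3)ˣ, y = 1 ∨ y = -1 := by decide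

theorem zmod_two_units : ∀ y : (ZMod 2)ˣ, y = 1 := by decide

/-- The group generated by the `p`-elements normalizing the translations. -/
def Mgrp (p k r : ℕ) [Fact p.Prime] : Subgroup (Perm (Pt p k r)) :=
  (Subgroup.closure (SimpleLocal.pElems p (Bs p k r))).map (Alt p k r).subtype

theorem mgrp_le_alt : Mgrp p k r ≤ Alt p k r := by
  rintro _ ⟨x, -, rfl⟩
  exact x.2

theorem mem_mgrp (hk : 3 ≤ k) (hr : r ≤ 1) {g : Perm (Pt p k r)} (hg : Perm.sign g = 1)
    (ha : Aff g) (hp : g ^ p = 1) : g ∈ Mgrp p k r := by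
  refine ⟨⟨g, Perm.mem_alternatingGroup.2 hg⟩,
    Subgroup.subset_closure ⟨(mem_normalizer_iff hk hr).2 ha, ?_⟩, rfl⟩
  obtain ⟨i, -, hi⟩ := (Nat.dvd_prime_pow (Fact.out : p.Prime)).1
    (orderOf_dvd_of_pow_eq_one (show g ^ p ^ 1 = 1 by rw [pow_one, hp]))
  exact ⟨i, by rw [Subgroup.orderOf_mk, hi]⟩

theorem mgrp_conj (hk : 3 ≤ k) (hr : r ≤ 1) {g x : Perm (Pt p k r)} (hg : Perm.sign g = 1)
    (ha : Aff g) (hx : x ∈ Mgrp p k r) : g * x * g⁻¹ ∈ Mgrp p k r := by
  obtain ⟨x, hx, rfl⟩ := hx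
  let G : Alt p k r := ⟨g, Perm.mem_alternatingGroup.2 hg⟩
  have hG : G ∈ Subgroup.normalizer (Bs p k r : Set (Alt p k r)) := (mem_normalizer_iff hk hr).2 ha
  refine ⟨G * x * G⁻¹, ?_, rfl⟩
  refine (Subgroup.closure_le (K := (Subgroup.closure (SimpleLocal.pElems p (Bs p k r))).comap
    (MulAut.conj G).toMonoidHom)).2 (fun y hy => ?_) hx
  obtain ⟨hyN, i, hi⟩ := hy
  exact Subgroup.subset_closure ⟨mul_mem (mul_mem hG hyN) (Subgroup.inv_mem _ hG), i,
    (MulEquiv.orderOf_eq (MulAut.conj G) y).trans hi⟩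

/-- The diagonal elements. -/
def dgHom : (Fin k → (ZMod p)ˣ) →* Perm (Pt p k r) := MonoidHom.mk' dg dg_mul

theorem dgHom_apply (u : Fin k → (ZMod p)ˣ) : dgHom (r := r) u = dg u := rfl

theorem top_conj_dg (π : Perm (Fin k)) (u : Fin k → (ZMod p)ˣ) :
    top (r := r) π * dg u * (top π)⁻¹ = dg (fun a => u (π⁻¹ a)) := by
  rw [mul_inv_eq_iff_eq_mul]
  refine Equiv.ext fun z => ?_
  rcases z with ⟨a, j⟩ | i <;> simp [Perm.mul_apply]

theorem top_mem_two (hp : p = 2) (hk : 3 ≤ k) (hr : r ≤ 1) (π : Perm (Fin k)) :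
    top π ∈ Mgrp p k r := by
  induction π using Equiv.Perm.swap_induction_on with
  | one => rw [top_one]; exact one_mem _
  | swap_mul f x y _ hf =>
    rw [top_mul]
    exact mul_mem (mem_mgrp hk hr (sign_top_two hp _) (aff_top _)
      (by rw [hp, sq, ← top_mul, Equiv.swap_mul_self, top_one])) hf

theorem top_mem_odd (hp : p ≠ 2) (hk : 3 ≤ k) (hr : r ≤ 1) (hpk : p ≤ k) {π : Perm (Fin k)}
    (hπ : Perm.sign π = 1) : top π ∈ Mgrp p k r := by
  let K : Subgroup (Perm (Fin k)) := (Mgrp p k r).comap topHom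
  have hord : ∀ x : Perm (Fin k), x ^ p = 1 → x ∈ K := fun x hx => by
    refine mem_mgrp (g := top x) hk hr ?_ (aff_top _) ?_
    · rw [sign_top_odd hp, sign_of_pow_eq_one hp (j := 1) (by rw [pow_one, hx])]
    · show topHom x ^ p = 1
      rw [← map_pow, hx, map_one]
  obtain ⟨x₀, hx₀⟩ := exists_prime_orderOf_dvd_card' p (G := Perm (Fin k)) (by
    rw [Nat.card_perm, Nat.card_fin]; exact (Fact.out : p.Prime).dvd_factorial.2 hpk)
  have hx₀p : x₀ ^ p = 1 := by rw [← hx₀]; exact pow_orderOf_eq_one x₀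
  let H := Subgroup.normalClosure ({x₀} : Set (Perm (Fin k)))
  have hHK : H ≤ K := by
    refine (Subgroup.closure_le _).2 fun x hx => hord x ?_
    obtain ⟨y, rfl, hy⟩ := Group.mem_conjugatesOfSet_iff.1 hx
    obtain ⟨c, rfl⟩ := isConj_iff.1 hy
    rw [conj_pow, hx₀p, mul_one, mul_inv_cancel]
  have hxH : x₀ ∈ H := Subgroup.subset_normalClosure rfl
  have hne : x₀ ≠ 1 := fun h => by
    rw [h, orderOf_one] at hx₀; exact (Fact.out : p.Prime).ne_one hx₀.symm
  obtain ⟨a, ha⟩ : ∃ a, x₀ a ≠ a := by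
    by_contra h
    push Not at h
    exact hne (Equiv.ext h)
  have ha2 : x₀ (x₀ a) ≠ a := fun h => by
    obtain ⟨m, hm⟩ := (Fact.out : p.Prime).odd_of_ne_two hp
    have h1 : (x₀ ^ p) a = a := by rw [hx₀p]; rfl
    rw [hm, pow_succ', Perm.mul_apply, pow_mul,
      Perm.pow_apply_eq_self_of_apply_eq_self (by rw [sq, Perm.mul_apply, h])] at h1
    exact ha h1
  have h3 : ∃ c ∈ H, Perm.IsThreeCycle c := by
    refine ⟨Equiv.swap a (x₀ a) * x₀ * (Equiv.swap a (x₀ a))⁻¹ * x₀⁻¹, H.mul_mem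
      (Subgroup.normalClosure_normal.conj_mem _ hxH _) (H.inv_mem hxH), ?_⟩
    have h4 : Equiv.swap a (x₀ a) * x₀ * (Equiv.swap a (x₀ a))⁻¹ * x₀⁻¹ =
        Equiv.swap (x₀ a) a * Equiv.swap (x₀ a) (x₀ (x₀ a)) := by
      rw [Equiv.swap_inv, Equiv.swap_comm (x₀ a) a, Equiv.swap_apply_apply]
      simp only [mul_assoc]
    rw [h4]
    exact Perm.isThreeCycle_swap_mul_swap_same ha (fun h => ha (x₀.injective h.symm)) ha2.symm
  obtain ⟨c, hcH, hc⟩ := h3
  have h5 : alternatingGroup (Fin k) ≤ H := by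
    rw [← Perm.closure_three_cycles_eq_alternating, Subgroup.closure_le]
    intro d hd
    obtain ⟨e, rfl⟩ := isConj_iff.1 (Perm.isConj_iff_cycleType_eq.2 (hc.trans hd.symm))
    exact Subgroup.normalClosure_normal.conj_mem c hcH e
  exact hHK (h5 (Perm.mem_alternatingGroup.2 hπ))

theorem dg_pair_mem (hp : p ≠ 2) (hk : 3 ≤ k) (hr : r ≤ 1) (hpk : p ≤ k) {a b : Fin k}
    (hab : a ≠ b) (x : (ZMod p)ˣ) :
    dg (Pi.mulSingle a x * Pi.mulSingle b x⁻¹) ∈ Mgrp p k r := by
  -- commutators of diagonal pairs with three-cycles of blocks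
  have hcomm : ∀ (s t : Fin k) (y : (ZMod p)ˣ) (π : Perm (Fin k)), Perm.sign π = 1 →
      dg ((Pi.mulSingle s y * Pi.mulSingle t y⁻¹) *
        fun d => ((Pi.mulSingle s y * Pi.mulSingle t y⁻¹ : Fin k → (ZMod p)ˣ) (π⁻¹ d))⁻¹)
        ∈ Mgrp p k r := by
    intro s t y π hπ
    have h1 := top_mem_odd (r := r) hp hk hr hpk hπ
    set u : Fin k → (ZMod p)ˣ := Pi.mulSingle s y * Pi.mulSingle t y⁻¹
    have h2 := mul_mem (mgrp_conj hk hr (sign_dg_pair s t y) (aff_dg u) h1)
      ((Mgrp p k r).inv_mem h1)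
    have h3 : dg (r := r) u * top π * (dg u)⁻¹ * (top π)⁻¹ =
        dg u * dg (fun d => (u (π⁻¹ d))⁻¹) := by
      have h4 := top_conj_dg (r := r) π u⁻¹
      simp only [Pi.inv_apply] at h4
      rw [← h4, show dg (r := r) u⁻¹ = (dg u)⁻¹ from map_inv (dgHom (r := r)) u]
      group
    rw [h3, ← dg_mul] at h2
    exact h2
  obtain ⟨c, hca, hcb⟩ := exists_third hk a b
  by_cases hk4 : 4 ≤ k
  · obtain ⟨e, he⟩ : ∃ e, e ∉ ({a, b, c} : Finset (Fin k)) := by
      by_contra h
      push Not at h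
      have h1 := (Finset.card_le_card (fun d (_ : d ∈ Finset.univ) => h d)).trans
        Finset.card_le_three
      rw [Finset.card_univ, Fintype.card_fin] at h1
      omega
    simp only [Finset.mem_insert, Finset.mem_singleton, not_or] at he
    obtain ⟨hea, heb, hec⟩ := he
    have h := hcomm a e x (Equiv.swap a c * Equiv.swap a b) (by
      rw [map_mul, Perm.sign_swap hca.symm, Perm.sign_swap hab]; decide)
    convert h using 2
    funext d
    simp only [Pi.mul_apply, mul_inv_rev, Equiv.swap_inv, Perm.mul_apply]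
    rcases eq_or_ne d a with rfl | hda
    · simp [Pi.mulSingle_apply, hab, hca, hcb, hea, heb, hec, hab.symm, hca.symm, hcb.symm,
        Ne.symm hea, Ne.symm heb, Ne.symm hec, Equiv.swap_apply_def]
    rcases eq_or_ne d b with rfl | hdb
    · simp [Pi.mulSingle_apply, hab, hca, hcb, hea, heb, hec, hab.symm, hca.symm, hcb.symm,
        Ne.symm hea, Ne.symm heb, Ne.symm hec, Equiv.swap_apply_def]
    rcases eq_or_ne d c with rfl | hdc
    · simp [Pi.mulSingle_apply, hab, hca, hcb, hea, heb, hec, hab.symm, hca.symm, hcb.symm,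
        Ne.symm hea, Ne.symm heb, Ne.symm hec, Equiv.swap_apply_def]
    rcases eq_or_ne d e with rfl | hde
    · simp [Pi.mulSingle_apply, hea, heb, hec, Equiv.swap_apply_def]
    · simp [Pi.mulSingle_apply, hda, hdb, hdc, hde, Equiv.swap_apply_def]
  · obtain rfl : p = 3 := by
      have h2 := (Fact.out : p.Prime).two_le
      omega
    have hunits := zmod_three_units
    rcases hunits x with rfl | rfl
    · simp [dg_one, one_mem]
    have h := hcomm c b (-1) (Equiv.swap c b * Equiv.swap c a) (by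
      rw [map_mul, Perm.sign_swap hcb, Perm.sign_swap hca]; decide)
    convert h using 2
    funext d
    simp only [Pi.mul_apply, mul_inv_rev, Equiv.swap_inv, Perm.mul_apply]
    rcases eq_or_ne d a with rfl | hda
    · simp [Pi.mulSingle_apply, hab, hca, hcb, hab.symm, hca.symm, hcb.symm, Equiv.swap_apply_def]
    rcases eq_or_ne d b with rfl | hdb
    · simp [Pi.mulSingle_apply, hab, hca, hcb, hab.symm, hca.symm, hcb.symm, Equiv.swap_apply_def]
    rcases eq_or_ne d c with rfl | hdc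
    · simp [Pi.mulSingle_apply, hab, hca, hcb, hab.symm, hca.symm, hcb.symm, Equiv.swap_apply_def]
    · simp [Pi.mulSingle_apply, hda, hdb, hdc, Equiv.swap_apply_def]

theorem dg_mem (hp : p ≠ 2) (hk : 3 ≤ k) (hr : r ≤ 1) (hpk : p ≤ k) {u : Fin k → (ZMod p)ˣ}
    (hu : ∏ a, u a = 1) : dg u ∈ Mgrp p k r := by
  let c : Fin k := ⟨0, by omega⟩
  have h1 : u = ∏ a, (Pi.mulSingle a (u a) * Pi.mulSingle c (u a)⁻¹ : Fin k → (ZMod p)ˣ) := by
    rw [Finset.prod_mul_distrib, Finset.univ_prod_mulSingle]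
    have : (∏ a, Pi.mulSingle c (u a)⁻¹ : Fin k → (ZMod p)ˣ) = 1 := by
      funext d
      rw [Finset.prod_apply]
      rcases eq_or_ne d c with rfl | hd
      · simp [hu]
      · simp [hd]
    rw [this, mul_one]
  rw [h1]
  refine Subgroup.prod_mem ((Mgrp p k r).comap dgHom) fun a _ => ?_
  show dg (Pi.mulSingle a (u a) * Pi.mulSingle c (u a)⁻¹) ∈ Mgrp p k r
  rcases eq_or_ne a c with rfl | hac
  · rw [← Pi.mulSingle_mul, mul_inv_cancel, Pi.mulSingle_one, dg_one]; exact one_mem _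
  · exact dg_pair_mem hp hk hr hpk hac _

theorem aut (hk : 3 ≤ k) (hr : r ≤ 1) (hpk : p ≤ k) :
    Subgroup.normalizer (Bs p k r : Set (Alt p k r)) ≤
      Subgroup.closure (SimpleLocal.localElems p (Bs p k r)) := by
  set L := Subgroup.closure (SimpleLocal.localElems p (Bs p k r))
  have hML : Subgroup.closure (SimpleLocal.pElems p (Bs p k r)) ≤ L :=
    Subgroup.closure_mono fun x hx => ⟨hx.1, Bs p k r, Bs p k r, isPGroup_T.comap_subtype,
      le_rfl, le_rfl, centric hk hr, hx.1, Subgroup.subset_closure hx⟩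
  have hmem : ∀ x : Alt p k r, (x : Perm (Pt p k r)) ∈ Mgrp p k r → x ∈ L := by
    rintro x ⟨y, hy, hyx⟩
    exact hML (Subtype.ext hyx ▸ hy)
  -- elements with unit product one
  have hone : ∀ (g : Perm (Pt p k r)) (π : Perm (Fin k)) (u : Fin k → (ZMod p)ˣ)
      (v : Fin k → ZMod p),
      (∀ a j, g (Sum.inl (a, j)) = Sum.inl (π a, (u a : ZMod p) * j + v a)) →
      (∀ i, g (Sum.inr i) = Sum.inr i) → Perm.sign g = 1 → (∏ a, u a) = 1 →
      g ∈ Mgrp p k r := by
    intro g π u v e1 e2 hg hu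
    have hd := aff_decomp e1 e2
    rcases eq_or_ne p 2 with hp | hp
    · have hu1 : dg (r := r) u = 1 := by
        subst hp
        rw [show u = 1 from funext fun a => zmod_two_units _,
          dg_one]
      rw [hu1, mul_one] at hd
      have ht := top_mem_two hp hk hr π
      have htr : Perm.sign (tr (r := r) fun b => v (π⁻¹ b)) = 1 := by
        have h1 := congrArg Perm.sign hd
        rwa [map_mul, sign_top_two hp, mul_one, hg, eq_comm] at h1
      rw [hd]
      exact mul_mem (mem_mgrp hk hr htr (aff_tr _) (tr_pow_self _)) ht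
    · have hdg := dg_mem (r := r) hp hk hr hpk hu
      have hdgs : Perm.sign (dg (r := r) u) = 1 := Perm.mem_alternatingGroup.1 (mgrp_le_alt hdg)
      have htr : Perm.sign (tr (r := r) fun b => v (π⁻¹ b)) = 1 :=
        sign_of_pow_eq_one hp (j := 1) (by rw [pow_one, tr_pow_self])
      have hπ : Perm.sign π = 1 := by
        have h1 := congrArg Perm.sign hd
        rwa [map_mul, map_mul, htr, hdgs, one_mul, mul_one, sign_top_odd hp, hg, eq_comm] at h1
      rw [hd]
      exact mul_mem (mul_mem (mem_mgrp hk hr htr (aff_tr _) (tr_pow_self _))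
        (top_mem_odd hp hk hr hpk hπ)) hdg
  intro g hg
  obtain ⟨π, u, v, e1, e2⟩ := (mem_normalizer_iff hk hr).1 hg
  rcases eq_or_ne p 2 with hp | hp
  · refine hmem g (hone _ π u v e1 e2 (sign_coe g) ?_)
    subst hp
    exact zmod_two_units _
  obtain ⟨ι⟩ : Nonempty (ZMod p ↪ Fin k) :=
    Function.Embedding.nonempty_of_card_le (by rwa [ZMod.card, Fintype.card_fin])
  obtain ⟨h, hh, π', u', hu', e3, e4⟩ := exists_diag (r := r) ι hp hr (∏ a, u a)
  have h1 : g * h ∈ L := hmem _ <| hone _ (π * π') (fun a => u (π' a) * u' a) (fun a => v (π' a))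
    (fun a j => by
      rw [Subgroup.coe_mul, Perm.mul_apply, e3, e1, Perm.mul_apply, Units.val_mul, mul_assoc])
    (fun i => by rw [Subgroup.coe_mul, Perm.mul_apply, e4, e2]) (sign_coe _)
    (by rw [Finset.prod_mul_distrib, Equiv.prod_comp π' u, hu', mul_inv_cancel])
  have h2 := L.mul_mem h1 (L.inv_mem (Subgroup.subset_closure hh))
  rwa [mul_inv_cancel_right] at h2

end Cfsg.Agent.Fusion.AltSimple
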