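/-
Simplicity of the fusion systems of alternating groups.
-/
import Mathlib
import Cfsg.Agent.Lib.Fusion.AltSimple.Aut

set_option autoImplicit false
set_option linter.unusedSectionVars false

namespace Cfsg.Agent.Fusion.AltSimple

open Equiv

variable {p k r : ℕ} [Fact p.Prime]

/-- The even translations satisfy the criterion. -/
theorem good (hk : 3 ≤ k) (hr : r ≤ 1) (hpk : p ≤ k) : SimpleLocal.Good p (Bs p k r) where
  ne := Bs_ne_bot hk
  centric := centric hk hr
  sylow := sylow hk hr
  rigid := rigid hk hr
  fuse := fuse hk hr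
  closed := closed hk hr
  gen := fun Φ _ hp h1 hmul x j hx => gen Φ hp h1 hmul x j hx
  aut := aut hk hr hpk

/-- The fusion system of the alternating group of degree `n` is simple. -/
theorem isSimple_alternating (n : ℕ) (hn : 6 ≤ n) (hnp : p ^ 2 ≤ n) (hb : n % p ≤ 1)
    (S : Sylow p (alternatingGroup (Fin n))) :
    (Cfsg.groupFusionSystem (S : Subgroup (alternatingGroup (Fin n)))).IsSimple p := by
  have hp := (Fact.out : p.Prime)
  have hpk : p ≤ n / p := (Nat.le_div_iff_mul_le hp.pos).2 (by rwa [← sq])
  have hk : 3 ≤ n / p := by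
    rcases eq_or_ne p 2 with h | h
    · subst h; omega
    · have := hp.two_le; omega
  have hcard : Fintype.card (Pt p (n / p) (n % p)) = n := by
    rw [Fintype.card_sum, Fintype.card_prod, ZMod.card, Fintype.card_fin, Fintype.card_fin,
      mul_comm]
    exact Nat.div_add_mod n p
  exact SimpleLocal.isSimple
    ((good hk hb hpk).map (Fintype.equivFinOfCardEq hcard).altCongrHom) S

end Cfsg.Agent.Fusion.AltSimple
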